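import Cfsg.Agent.Lib.NearField.TypeTwo
import Cfsg.Agent.Lib.Solvable.FixedPointFree
import Mathlib.GroupTheory.FixedPointFree
import Mathlib.GroupTheory.Transfer
import Mathlib.GroupTheory.SpecificGroups.Cyclic
import Mathlib.LinearAlgebra.Determinant

/-!
# Regular linear groups in odd dimension with an almost fixed-point-free involution are abelian
-/

set_option autoImplicit false
set_option linter.style.haveILetI false
set_option linter.unusedSectionVars false

namespace Cfsg.Agent.NearField

variable {q : ℕ} [Fact q.Prime] {V : Type*} [AddCommGroup V] [Module (ZMod q) V] [Finite V]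
  [Nontrivial V] {G : Type*} [Group G] [Finite G] {ρ : G →* (V ≃ₗ[ZMod q] V)}

theorem isCyclic_abelian (h : Reg ρ) (B : Subgroup G) [IsMulCommutative B] : IsCyclic B := by
  classical
  haveI : Nonempty {v : V // v ≠ 0} := ⟨⟨_, (exists_ne (0 : V)).choose_spec⟩⟩
  obtain ⟨⟨v, hv⟩, hmin⟩ := Finite.exists_min (fun v : {v : V // v ≠ 0} => Nat.card (cyc ρ B v.1))
  haveI : Finite (Module.End (ZMod q) V) := Finite.of_injective _ DFunLike.coe_injective
  letI : CommRing (span ρ B) :=
    { (inferInstance : Ring (span ρ B)) with mul_comm := fun x y => Subtype.ext (span_comm B _ x.2 _ y.2) }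
  let I : Ideal (span ρ B) :=
    { carrier := {x | (x : Module.End (ZMod q) V) v = 0}
      zero_mem' := rfl
      add_mem' := fun {a b} ha hb => by
        show (a : Module.End (ZMod q) V) v + (b : Module.End (ZMod q) V) v = 0
        rw [ha, hb, add_zero]
      smul_mem' := fun a {b} hb => by
        show (a : Module.End (ZMod q) V) ((b : Module.End (ZMod q) V) v) = 0
        rw [hb, map_zero] }
  haveI hI : I.IsPrime := by
    refine ⟨fun e => hv ?_, fun {x y} hxy => ?_⟩
    · exact ((Ideal.eq_top_iff_one I).1 e : (1 : Module.End (ZMod q) V) v = 0)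
    · by_contra hno
      rw [not_or] at hno
      obtain ⟨hx, hy⟩ := hno
      have hle : cyc ρ B ((y : Module.End (ZMod q) V) v) ≤ cyc ρ B v :=
        cyc_le (fun a ha w hw => cyc_invariant v (lin_mem B ha) w hw) ⟨_, y.2, rfl⟩
      have heq : ((cyc ρ B ((y : Module.End (ZMod q) V) v) : Submodule (ZMod q) V) : Set V) = cyc ρ B v :=
        Set.eq_of_subset_of_ncard_le hle (by
          rw [← Nat.card_coe_set_eq, ← Nat.card_coe_set_eq]
          exact hmin ⟨_, hy⟩)
      obtain ⟨w, hw, hwv⟩ : v ∈ cyc ρ B ((y : Module.End (ZMod q) V) v) := by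
        rw [← SetLike.mem_coe, heq]; exact self_mem_cyc B v
      refine hx ?_
      show (x : Module.End (ZMod q) V) v = 0
      conv_lhs => rw [← hwv]
      show ((x : Module.End (ZMod q) V) * w) ((y : Module.End (ZMod q) V) v) = 0
      rw [span_comm B _ x.2 _ hw]
      show w (((x * y : span ρ B) : Module.End (ZMod q) V) v) = 0
      rw [show ((x * y : span ρ B) : Module.End (ZMod q) V) v = 0 from hxy, map_zero]
  let f : B →* span ρ B ⧸ I := (Ideal.Quotient.mk I).toMonoidHom.comp
    { toFun := fun a => ⟨lin ρ a, lin_mem B a.2⟩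
      map_one' := Subtype.ext (map_one _)
      map_mul' := fun a b => Subtype.ext (map_mul _ _ _) }
  refine isCyclic_of_subgroup_isDomain f fun a b hab => ?_
  have h1 : lin ρ (a : G) v - lin ρ (b : G) v = 0 := Ideal.Quotient.eq.1 hab
  refine Subtype.ext (inv_mul_eq_one.1 (h.free v hv ((a : G)⁻¹ * b) ?_))
  rw [act_mul, ← show ρ (a : G) v = ρ (b : G) v from sub_eq_zero.1 h1, ← act_mul,
    inv_mul_cancel, act_one]

/-- In odd dimension there are no anticommuting elements, so two-groups are cyclic. -/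
theorem isCyclic_two_group (h : Reg ρ) (hq : q ≠ 2) (hdim : Odd (Module.finrank (ZMod q) V))
    (P : Subgroup G) (hP : IsPGroup 2 P) : IsCyclic P := by
  haveI : Fact (Nat.Prime 2) := ⟨Nat.prime_two⟩
  have hab : AbCyc.AbCyclic P := AbCyc.AbCyclic.subgroup (fun B hB => by
    haveI := hB
    exact isCyclic_abelian h B) P
  rcases FpfStruct.cyclic_or_quaternion hP hab with hc | ⟨-, n, ⟨e⟩⟩
  · exact hc
  cases n with
  | zero =>
    haveI : IsCyclic (QuaternionGroup (2 ^ 0)) := QuaternionGroup.quaternionGroup_one_isCyclic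
    exact isCyclic_of_surjective e.symm e.symm.surjective
  | succ n =>
    exfalso
    let a' : QuaternionGroup (2 ^ (n + 1)) := .a ((2 ^ n : ℕ) : ZMod _)
    let b' : QuaternionGroup (2 ^ (n + 1)) := .xa 0
    let z' : QuaternionGroup (2 ^ (n + 1)) := .a ((2 ^ (n + 1) : ℕ) : ZMod _)
    have h0 : ((2 * 2 ^ (n + 1) : ℕ) : ZMod (2 * 2 ^ (n + 1))) = 0 := ZMod.natCast_self _
    push_cast at h0
    have e3 : b' * a' = z' * (a' * b') := by
      simp only [a', b', z', QuaternionGroup.xa_mul_a, QuaternionGroup.a_mul_xa]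
      congr 1
      push_cast
      linear_combination h0
    have e4 : z' * z' = 1 := by
      simp only [z', QuaternionGroup.a_mul_a]
      rw [← QuaternionGroup.a_zero]
      congr 1
      push_cast
      linear_combination h0
    have e5 : z' ≠ 1 := by
      simp only [z', ← QuaternionGroup.a_zero, ne_eq, QuaternionGroup.a.injEq]
      rw [ZMod.natCast_eq_zero_iff]
      intro hd
      have := Nat.le_of_dvd (by positivity) hd
      have : 0 < 2 ^ (n + 1) := by positivity
      omega
    let π : QuaternionGroup (2 ^ (n + 1)) →* Module.End (ZMod q) V :=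
      (lin ρ).comp (P.subtype.comp e.symm.toMonoidHom)
    have hπz : π z' = -1 := LinearMap.ext fun v => neg_of_involution h (t := ((e.symm z' : P) : G))
      (by rw [pow_two, ← Subgroup.coe_mul, ← map_mul, e4, map_one]; rfl)
      (fun he => e5 (by
        have h1 : e.symm z' = 1 := Subtype.ext he
        rwa [MulEquiv.map_eq_one_iff] at h1)) v
    have hanti : π b' * π a' = (-1 : ZMod q) • (π a' * π b') := by
      rw [← map_mul, e3, map_mul, map_mul, hπz, neg_smul, one_smul, neg_one_mul]
    have hdet := congrArg LinearMap.det hanti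
    rw [LinearMap.det_smul, hdim.neg_one_pow, map_mul, map_mul] at hdet
    have hinv : ∀ x : QuaternionGroup (2 ^ (n + 1)), IsUnit (LinearMap.det (π x)) := fun x =>
      ((Group.isUnit x).map π).map LinearMap.det
    have h2 : ((2 : ℕ) : ZMod q) = 0 :=
      (mul_eq_zero.1 (show ((2 : ℕ) : ZMod q) * (LinearMap.det (π b') * LinearMap.det (π a')) = 0 by
        push_cast; linear_combination hdet)).resolve_right (mul_ne_zero (hinv b').ne_zero (hinv a').ne_zero)
    exact hq ((Nat.prime_dvd_prime_iff_eq Fact.out Nat.prime_two).1 ((ZMod.natCast_eq_zero_iff 2 q).1 h2))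

/-- An involutory automorphism with at most two fixed points forces commutativity. -/
theorem commutative_of_involution (h : Reg ρ) (hq : q ≠ 2) (hdim : Odd (Module.finrank (ZMod q) V))
    (σ : G →* G) (hinvol : Function.Involutive σ)
    (hfix : ∀ a b : G, σ a = a → σ b = b → a ≠ 1 → b ≠ 1 → a = b) :
    (∀ a b : G, a * b = b * a) ∧ ∃ z : G, z ^ 2 = 1 ∧ z ≠ 1 ∧ σ z = z ∧ ∀ d, σ d = d → d = 1 ∨ d = z := by
  haveI : Fact (Nat.Prime 2) := ⟨Nat.prime_two⟩
  have heven : 2 ∣ Nat.card G := by
    have h1 := card_space h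
    rw [Module.natCard_eq_pow_finrank (K := ZMod q), Nat.card_zmod] at h1
    obtain ⟨k, hk⟩ := (((Fact.out : q.Prime).odd_of_ne_two hq).pow (n := Module.finrank (ZMod q) V))
    exact ⟨k, by omega⟩
  obtain ⟨z, hz⟩ := exists_prime_orderOf_dvd_card' 2 heven
  have hz2 : z ^ 2 = 1 := by rw [← hz, pow_orderOf_eq_one]
  have hz1 : z ≠ 1 := fun e => by rw [e, orderOf_one] at hz; omega
  have hσz : σ z = z := involution_unique h (by rw [← map_pow, hz2, map_one])
    (fun e => hz1 (hinvol.injective (e.trans (map_one σ).symm))) hz2 hz1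
  have hC : ∀ d, σ d = d → d = 1 ∨ d = z := fun d hd =>
    (em (d = 1)).imp_right fun h1 => hfix d z hd hσz h1 hz1
  refine ⟨?_, z, hz2, hz1, hσz, hC⟩
  let P : Sylow 2 G := default
  haveI hPc : IsCyclic P := isCyclic_two_group h hq hdim P P.2
  have hPN := hPc.normalizer_le_centralizer ((Nat.minFac_eq_two_iff _).2 heven)
  let τ := MonoidHom.transferSylow P hPN
  let O := τ.ker
  haveI : O.Normal := τ.normal_ker
  have hOP : O.IsComplement' P := MonoidHom.ker_transferSylow_isComplement' P hPN
  have hcop : (Nat.card O).Coprime (Nat.card P) := by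
    rw [← hOP.index_eq_card]
    exact (Sylow.card_coprime_index P).symm
  have hσO : ∀ x, x ∈ O → σ x ∈ O := by
    intro x hx
    rw [MonoidHom.mem_ker]
    refine orderOf_eq_one_iff.1 (Nat.eq_one_of_dvd_coprimes hcop ?_ (orderOf_dvd_natCard _))
    refine (orderOf_map_dvd τ (σ x)).trans ?_
    rw [orderOf_injective σ hinvol.injective]
    exact Subgroup.orderOf_dvd_natCard O hx
  have hzO : z ∉ O := fun hz' => by
    have h1 := Subgroup.orderOf_dvd_natCard O hz'
    rw [hz] at h1
    exact Nat.Prime.not_coprime_iff_dvd.2 ⟨2, Nat.prime_two, h1, P.dvd_card_of_dvd_card heven⟩ hcop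
  let σO : O →* O := (σ.comp O.subtype).codRestrict O fun x => hσO x x.2
  have hOcomm : ∀ a b : O, a * b = b * a := fun a b =>
    (MonoidHom.FixedPointFree.commute_all_of_involutive (φ := σO) (fun (x : O) hx => Subtype.ext (α := G)
      ((hC x (congrArg Subtype.val hx :)).resolve_right fun e => hzO (e ▸ x.2)))
      (fun x => Subtype.ext (hinvol x)) a b).eq
  let A := Subgroup.centralizer (O : Set G)
  haveI : A.Normal := inferInstance
  haveI : IsMulCommutative A := by
    refine ⟨⟨fun a b => commutative_of_cyclic_center_quotient (τ.comp A.subtype)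
      (fun x hx => Subgroup.mem_center_iff.2 fun y => Subtype.ext ?_) a b⟩⟩
    exact (Subgroup.mem_centralizer_iff.1 y.2 x hx).symm
  have hOA : O ≤ A := fun x hx => Subgroup.mem_centralizer_iff.2 fun y hy =>
    (congrArg Subtype.val (hOcomm ⟨y, hy⟩ ⟨x, hx⟩) :)
  suffices hAtop : A = ⊤ by
    intro a b
    exact (congrArg Subtype.val
      (mul_comm' (⟨a, hAtop ▸ Subgroup.mem_top a⟩ : A) ⟨b, hAtop ▸ Subgroup.mem_top b⟩) :)
  obtain ⟨e, d, -, -, -, hV, -, -, -, hr, hker, -⟩ := field_data h A
  rw [Module.natCard_eq_pow_finrank (K := ZMod q) (V := V), Nat.card_zmod, ← pow_mul] at hV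
  have hed := Nat.pow_right_injective (Fact.out : q.Prime).two_le hV
  have hk : (conjAut (ρ := ρ) A).ker = A := by
    refine le_antisymm (fun x hx => ?_) (fun x hx => ?_)
    · exact Subgroup.centralizer_le hOA ((hker x).1 hx)
    · exact (hker x).2 (Subgroup.le_centralizer A hx)
  rw [← Subgroup.index_eq_one]
  have h1 : A.index ∣ e := by rw [← hk, Subgroup.index_ker]; exact hr
  have h2 : A.index ∣ Nat.card P := hOP.symm.index_eq_card ▸ Subgroup.index_dvd_of_le hOA
  obtain ⟨k, -, hk2⟩ := (Nat.dvd_prime_pow Nat.prime_two).1 (P.card_eq_multiplicity ▸ h2)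
  rcases Nat.eq_zero_or_pos k with h0 | h0
  · rw [hk2, h0, pow_zero]
  · exact absurd (Dvd.dvd.trans (hk2 ▸ dvd_pow_self 2 h0.ne' : 2 ∣ A.index) h1)
      ((hed ▸ hdim).of_dvd_nat (Dvd.intro d rfl)).not_two_dvd_nat

end Cfsg.Agent.NearField
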