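import Cfsg.Agent.Lib.Compute.TableCert
import Mathlib.GroupTheory.PresentedGroup
import Mathlib.LinearAlgebra.Matrix.SpecialLinearGroup
import Mathlib.GroupTheory.OrderOfElement
import Mathlib.Tactic.NormNum

/-!
# The binary tetrahedral group from two generators
-/

set_option autoImplicit false

namespace Cfsg.Agent.NearField

/-- The coset table of `⟨x⟩`. -/
def cert23 : TableCert.Cert where
  n := 6
  tab := [[0, 3, 4, 1, 2, 5], [0, 3, 4, 1, 2, 5], [1, 2, 0, 4, 5, 3], [2, 0, 1, 5, 3, 4]]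
  tree := [(0, 2), (0, 3), (1, 0), (2, 0), (3, 3)]
  rels := [[0, 0, 0, 0], [2, 2, 2], [0, 2, 0, 3, 0, 2, 1, 3], [2, 2, 0, 3, 3, 2, 1, 3, 1]]
  sub := [0]
  steps := [(0, 1, 1), (0, 2, 4), (0, 3, 3), (1, 2, 2), (3, 1, 1), (3, 3, 8)]

/-- The defining relations, with `y` written for `c x c⁻¹`. -/
def Rels23 : Set (FreeGroup (Fin 2)) :=
  let x := FreeGroup.of (0 : Fin 2)
  let c := FreeGroup.of (1 : Fin 2)
  {x ^ 4, c ^ 3, x * (c * x * c⁻¹) * x * (c * x * c⁻¹)⁻¹,
    c * (c * x * c⁻¹) * c⁻¹ * (x * (c * x * c⁻¹))⁻¹}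

theorem rel_eq_one23 {r : FreeGroup (Fin 2)} (hr : r ∈ Rels23) : PresentedGroup.mk Rels23 r = 1 :=
  (QuotientGroup.eq_one_iff _).mpr (Subgroup.subset_normalClosure hr)

theorem card_le23 : Finite (PresentedGroup Rels23) ∧ Nat.card (PresentedGroup Rels23) ≤ 24 := by
  set x : PresentedGroup Rels23 := PresentedGroup.of 0 with hx
  set c : PresentedGroup Rels23 := PresentedGroup.of 1 with hc
  have e4 : x ^ 4 = 1 := by
    rw [hx, PresentedGroup.of, ← map_pow]; exact rel_eq_one23 (by simp [Rels23])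
  have e3 : c ^ 3 = 1 := by
    rw [hc, PresentedGroup.of, ← map_pow]; exact rel_eq_one23 (by simp [Rels23])
  have e1 : x * (c * x * c⁻¹) * x * (c * x * c⁻¹)⁻¹ = 1 := by
    simp only [hx, hc, PresentedGroup.of, ← map_inv, ← map_mul]
    exact rel_eq_one23 (by simp [Rels23])
  have e2 : c * (c * x * c⁻¹) * c⁻¹ * (x * (c * x * c⁻¹))⁻¹ = 1 := by
    simp only [hx, hc, PresentedGroup.of, ← map_inv, ← map_mul]
    exact rel_eq_one23 (by simp [Rels23])
  have hgen : Subgroup.closure {a | a ∈ [x, c]} = ⊤ := by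
    rw [eq_top_iff, ← PresentedGroup.closure_range_of, Subgroup.closure_le]
    rintro _ ⟨i, rfl⟩
    apply Subgroup.subset_closure
    fin_cases i <;> simp [hx, hc]
  have hfin : IsOfFinOrder x := isOfFinOrder_iff_pow_eq_one.mpr ⟨4, by norm_num, e4⟩
  haveI : Finite (Subgroup.zpowers x) := hfin.finite_zpowers.to_subtype
  obtain ⟨hf, hle⟩ := TableCert.card_le [x, c] cert23 (Subgroup.zpowers x) hgen (by decide)
    (by
      intro r hr
      simp only [cert23, List.mem_cons, List.not_mem_nil, or_false] at hr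
      rcases hr with rfl | rfl | rfl | rfl
      · simpa [TableCert.wval, TableCert.letter, pow_succ, mul_assoc] using e4
      · simpa [TableCert.wval, TableCert.letter, pow_succ, mul_assoc] using e3
      · simpa [TableCert.wval, TableCert.letter, pow_succ, mul_assoc] using e1
      · simpa [TableCert.wval, TableCert.letter, pow_succ, mul_assoc] using e2)
    (by simp [cert23, TableCert.letter]) (by decide +kernel)
  have h4 : Nat.card (Subgroup.zpowers x) ≤ 4 := by
    rw [Nat.card_zpowers]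
    exact Nat.le_of_dvd (by norm_num) (orderOf_dvd_of_pow_eq_one e4)
  exact ⟨hf, hle.trans (by have : cert23.n = 6 := rfl; rw [this]; omega)⟩

/-- A pair satisfying the relations and generating at least 24 elements gives an embedding. -/
theorem exists_embed {G : Type*} [Group G] [Finite G] (x c : G) (h4 : x ^ 4 = 1) (h3 : c ^ 3 = 1)
    (h1 : x * (c * x * c⁻¹) * x = c * x * c⁻¹)
    (h2 : c * (c * x * c⁻¹) * c⁻¹ = x * (c * x * c⁻¹))
    (h24 : 24 ≤ Nat.card (Subgroup.closure ({x, c} : Set G))) :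
    ∃ φ : PresentedGroup Rels23 →* G, Function.Injective φ ∧ φ.range = Subgroup.closure {x, c} ∧
      Nat.card (PresentedGroup Rels23) = 24 := by
  have hrels : ∀ r ∈ Rels23, FreeGroup.lift ![x, c] r = 1 := by
    intro r hr
    simp only [Rels23, Set.mem_insert_iff, Set.mem_singleton_iff] at hr
    rcases hr with rfl | rfl | rfl | rfl <;>
      simp only [map_pow, map_mul, map_inv, FreeGroup.lift_apply_of, Matrix.cons_val_zero,
        Matrix.cons_val_one]
    · exact h4
    · exact h3
    · rw [h1, mul_inv_cancel]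
    · rw [h2, mul_inv_cancel]
  let φ : PresentedGroup Rels23 →* G := PresentedGroup.toGroup hrels
  have hr : φ.range = Subgroup.closure {x, c} := by
    rw [MonoidHom.range_eq_map, ← PresentedGroup.closure_range_of, MonoidHom.map_closure]
    congr 1
    ext g
    constructor
    · rintro ⟨_, ⟨i, rfl⟩, rfl⟩
      have e : φ (PresentedGroup.of i) = ![x, c] i := PresentedGroup.toGroup.of hrels
      rw [e]
      fin_cases i <;> simp
    · rintro (rfl | rfl)
      · exact ⟨_, ⟨0, rfl⟩, PresentedGroup.toGroup.of hrels⟩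
      · exact ⟨_, ⟨1, rfl⟩, PresentedGroup.toGroup.of hrels⟩
  obtain ⟨hf, hle⟩ := card_le23
  haveI := hf
  have hs := MonoidHom.rangeRestrict_surjective φ
  have hge := Nat.card_le_card_of_surjective _ hs
  rw [hr] at hge
  have hc : Nat.card (PresentedGroup Rels23) = 24 := le_antisymm hle (h24.trans hge)
  have hb := (Nat.bijective_iff_surjective_and_card φ.rangeRestrict).mpr ⟨hs,
    le_antisymm (by rw [hc, hr]; exact h24) (Nat.card_le_card_of_surjective _ hs)⟩
  exact ⟨φ, fun a b e => hb.injective (Subtype.ext e), hr, hc⟩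

/-- The generators of SL(2,3). -/
def slX : Matrix.SpecialLinearGroup (Fin 2) (ZMod 3) := ⟨!![0, -1; 1, 0], by decide⟩

/-- The generators of SL(2,3). -/
def slC : Matrix.SpecialLinearGroup (Fin 2) (ZMod 3) := ⟨!![0, 2; 1, 2], by decide⟩

theorem card_sl23 : Nat.card (Matrix.SpecialLinearGroup (Fin 2) (ZMod 3)) = 24 := by
  rw [Nat.card_eq_fintype_card]
  decide +kernel

theorem word_injective : ∀ a b : Fin 4 × Fin 2 × Fin 3,
    slX ^ (a.1 : ℕ) * ((slC * slX * slC⁻¹) ^ (a.2.1 : ℕ) * slC ^ (a.2.2 : ℕ)) =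
      slX ^ (b.1 : ℕ) * ((slC * slX * slC⁻¹) ^ (b.2.1 : ℕ) * slC ^ (b.2.2 : ℕ)) → a = b := by
  decide +kernel

theorem equiv_sl23 : Nonempty (PresentedGroup Rels23 ≃* Matrix.SpecialLinearGroup (Fin 2) (ZMod 3)) := by
  haveI : Fact (Nat.Prime 2) := ⟨Nat.prime_two⟩
  haveI : Fact (Nat.Prime 3) := ⟨Nat.prime_three⟩
  set S := Subgroup.closure ({slX, slC} : Set (Matrix.SpecialLinearGroup (Fin 2) (ZMod 3))) with hS
  have hx : slX ∈ S := Subgroup.subset_closure (by simp)
  have hc : slC ∈ S := Subgroup.subset_closure (by simp)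
  have h24 : 24 ≤ Nat.card S := by
    classical
    have : (Finset.image (fun p : Fin 4 × Fin 2 × Fin 3 =>
        (⟨slX ^ (p.1 : ℕ) * ((slC * slX * slC⁻¹) ^ (p.2.1 : ℕ) * slC ^ (p.2.2 : ℕ)),
          mul_mem (pow_mem hx _) (mul_mem (pow_mem (mul_mem (mul_mem hc hx) (inv_mem hc)) _)
            (pow_mem hc _))⟩ : S)) Finset.univ).card = 24 := by
      rw [Finset.card_image_of_injective]
      · rfl
      · intro a b e
        exact word_injective a b (congrArg Subtype.val e)
    rw [Nat.card_eq_fintype_card, ← this]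
    exact Finset.card_le_univ _
  obtain ⟨φ, hinj, hr, hcard⟩ := exists_embed slX slC (by decide +kernel) (by decide +kernel)
    (by decide +kernel) (by decide +kernel) h24
  exact ⟨MulEquiv.ofBijective φ ((Nat.bijective_iff_injective_and_card φ).mpr
    ⟨hinj, hcard.trans card_sl23.symm⟩)⟩

end Cfsg.Agent.NearField
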