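import Cfsg.Agent.Lib.NearField.Quaternion
import Mathlib.RingTheory.LittleWedderburn
import Mathlib.FieldTheory.Finite.Basic

/-!
# Regular linear groups without irreducible cyclic normal subgroups
-/

set_option autoImplicit false
set_option linter.style.haveILetI false

namespace Cfsg.Agent.NearField

variable {q : ℕ} [Fact q.Prime] {V : Type*} [AddCommGroup V] [Module (ZMod q) V] [Finite V]
  [Nontrivial V] {G : Type*} [Group G] [Finite G] {ρ : G →* (V ≃ₗ[ZMod q] V)}

/-- No cyclic normal subgroup is irreducible. -/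
def Reducible (ρ : G →* (V ≃ₗ[ZMod q] V)) : Prop :=
  ∀ A : Subgroup G, A.Normal → IsCyclic A → ∃ W : Submodule (ZMod q) V, W ≠ ⊥ ∧ W ≠ ⊤ ∧
    ∀ a ∈ A, ∀ v ∈ W, ρ a v ∈ W

theorem span_mem_of_invariant {A : Subgroup G} {W : Submodule (ZMod q) V}
    (hW : ∀ a ∈ A, ∀ v ∈ W, ρ a v ∈ W) {x : Module.End (ZMod q) V} (hx : x ∈ span ρ A) :
    ∀ v ∈ W, x v ∈ W := by
  induction hx using Subring.closure_induction with
  | mem y hy =>
    obtain ⟨a, ha, rfl⟩ := hy
    exact hW a ha
  | zero => intro v _; exact W.zero_mem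
  | one => intro v hv; exact hv
  | add a b _ _ ha hb => intro v hv; exact W.add_mem (ha v hv) (hb v hv)
  | neg a _ ha => intro v hv; exact W.neg_mem (ha v hv)
  | mul a b _ _ ha hb => intro v hv; exact ha _ (hb v hv)

variable (ρ) in
/-- The submodule generated by a vector. -/
noncomputable def cyc (A : Subgroup G) (v : V) : Submodule (ZMod q) V :=
  AddSubgroup.toZModSubmodule q
    { carrier := {w | ∃ x ∈ span ρ A, x v = w}
      zero_mem' := ⟨0, zero_mem _, rfl⟩
      add_mem' := by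
        rintro _ _ ⟨x, hx, rfl⟩ ⟨y, hy, rfl⟩
        exact ⟨x + y, add_mem hx hy, rfl⟩
      neg_mem' := by
        rintro _ ⟨x, hx, rfl⟩
        exact ⟨-x, neg_mem hx, rfl⟩ }

theorem mem_cyc {A : Subgroup G} {v w : V} : w ∈ cyc ρ A v ↔ ∃ x ∈ span ρ A, x v = w := Iff.rfl

theorem self_mem_cyc (A : Subgroup G) (v : V) : v ∈ cyc ρ A v := ⟨1, one_mem _, rfl⟩

theorem cyc_invariant {A : Subgroup G} (v : V) {x : Module.End (ZMod q) V} (hx : x ∈ span ρ A) :
    ∀ w ∈ cyc ρ A v, x w ∈ cyc ρ A v := by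
  rintro _ ⟨y, hy, rfl⟩
  exact ⟨x * y, mul_mem hx hy, rfl⟩

theorem cyc_le {A : Subgroup G} {W : Submodule (ZMod q) V} (hW : ∀ a ∈ A, ∀ v ∈ W, ρ a v ∈ W)
    {v : V} (hv : v ∈ W) : cyc ρ A v ≤ W := by
  rintro _ ⟨x, hx, rfl⟩
  exact span_mem_of_invariant hW hx v hv

theorem card_cyc_le (h : Reg ρ) (A : Subgroup G) [A.Normal] {v w : V} (hv : v ≠ 0) (hw : w ≠ 0) :
    Nat.card (cyc ρ A v) ≤ Nat.card (cyc ρ A w) := by
  obtain ⟨g, rfl⟩ := h.trans v w hv hw
  refine Nat.card_le_card_of_injective (fun u => ⟨ρ g u, ?_⟩) fun a b e => Subtype.ext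
    ((ρ g).injective (congrArg Subtype.val e))
  obtain ⟨x, hx, hxu⟩ := u.2
  refine ⟨_, conj_mem (ρ := ρ) A g x hx, ?_⟩
  show ρ g (x (ρ g⁻¹ (ρ g v))) = ρ g u
  rw [← act_mul, inv_mul_cancel, act_one, hxu]

theorem cyc_eq_of_mem (h : Reg ρ) (A : Subgroup G) [A.Normal] {v u : V} (hu : u ∈ cyc ρ A v)
    (hu0 : u ≠ 0) : cyc ρ A u = cyc ρ A v := by
  have hv0 : v ≠ 0 := by
    rintro rfl
    obtain ⟨x, -, rfl⟩ := hu
    exact hu0 (map_zero x)
  have hle : cyc ρ A u ≤ cyc ρ A v :=
    cyc_le (fun a ha w hw => cyc_invariant v (lin_mem A ha) w hw) hu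
  exact SetLike.ext' (Set.eq_of_subset_of_ncard_le hle (by
    rw [← Nat.card_coe_set_eq, ← Nat.card_coe_set_eq]
    exact card_cyc_le h A hv0 hu0))

theorem exponent_two_le (h : Reg ρ) (hI : Reducible ρ) (A : Subgroup G) [A.Normal]
    [IsMulCommutative A] :
    ∃ e d : ℕ, 0 < e ∧ 2 ≤ d ∧ Nat.card (span ρ A) = q ^ e ∧ Nat.card V = (q ^ e) ^ d ∧
      Nat.card A ∣ q ^ e - 1 ∧ Nat.card (conjAut (ρ := ρ) A).range ∣ e := by
  obtain ⟨e, d, he, hd, hK, hV, hA, hc, -, hr, -, h1⟩ := field_data h A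
  refine ⟨e, d, he, ?_, hK, hV, hA, hr⟩
  by_contra hd2
  obtain ⟨W, hW0, hW1, hW⟩ := hI A inferInstance hc
  obtain ⟨v, hv, hv0⟩ := W.ne_bot_iff.1 hW0
  refine hW1 (eq_top_iff.2 fun u _ => ?_)
  obtain ⟨k, hk⟩ := (h1 (by omega) v hv0).2 u
  exact hk ▸ span_mem_of_invariant hW k.2 v hv

theorem centralizer_ne (h : Reg ρ) (hI : Reducible ρ) (A : Subgroup G) [A.Normal]
    [IsMulCommutative A] : Subgroup.centralizer (A : Set G) ≠ A := by
  intro hC
  obtain ⟨e, d, he, hd, -, hV, hA, hr⟩ := exponent_two_le h hI A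
  obtain ⟨-, -, -, -, -, -, -, -, -, -, hker, -⟩ := field_data h A
  have hk : (conjAut (ρ := ρ) A).ker = A := by
    ext c
    rw [MonoidHom.mem_ker, hker, hC]
  have hcard : Nat.card G = Nat.card (conjAut (ρ := ρ) A).range * Nat.card A := by
    rw [Subgroup.card_eq_card_quotient_mul_card_subgroup (conjAut (ρ := ρ) A).ker,
      Nat.card_congr (QuotientGroup.quotientKerEquivRange _).toEquiv, hk]
  have hVG := card_space h
  set Q := q ^ e with hQ
  have hQe : e < Q := Nat.lt_pow_self (Fact.out : q.Prime).one_lt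
  have hQ2 : 2 ≤ Q := le_trans (Fact.out : q.Prime).two_le (Nat.le_self_pow he.ne' q)
  have h2 : Q * Q ≤ Q ^ d := by rw [← pow_two]; exact Nat.pow_le_pow_right (by omega) hd
  have h3 : Nat.card (conjAut (ρ := ρ) A).range * Nat.card A ≤ e * (Q - 1) :=
    Nat.mul_le_mul (Nat.le_of_dvd he hr) (Nat.le_of_dvd (by omega) hA)
  have h4 : e * (Q - 1) < Q * (Q - 1) := (Nat.mul_lt_mul_right (by omega)).2 hQe
  have h5 : Q * (Q - 1) + Q = Q * Q := by rw [← Nat.mul_succ]; congr 1; omega
  omega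

theorem isMulCommutative_of_span_comm (h : Reg ρ) {N : Subgroup G}
    (hc : ∀ x ∈ span ρ N, ∀ y ∈ span ρ N, x * y = y * x) : IsMulCommutative N :=
  ⟨⟨fun a b => Subtype.ext (h.inj (LinearEquiv.ext fun v => by
    have := congrArg (fun T : Module.End (ZMod q) V => T v) (hc _ (lin_mem N a.2) _ (lin_mem N b.2))
    show ρ ((a : G) * b) v = ρ ((b : G) * a) v
    rw [act_mul, act_mul]
    exact this))⟩⟩

/-- A non-abelian normal subgroup is irreducible. -/
theorem irreducible_of_not_comm (h : Reg ρ) (N : Subgroup G) [N.Normal] (hN : ¬ IsMulCommutative N)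
    (W : Submodule (ZMod q) V) (hW : ∀ n ∈ N, ∀ v ∈ W, ρ n v ∈ W) : W = ⊥ ∨ W = ⊤ := by
  by_contra hcon
  rw [not_or] at hcon
  obtain ⟨v₀, hv₀, hv00⟩ := W.ne_bot_iff.1 hcon.1
  have hproper : ∀ z : V, z ≠ 0 → ∃ u, u ∉ cyc ρ N z := by
    intro z hz
    by_contra hall
    push Not at hall
    refine hcon.2 (eq_top_iff.2 fun u _ => ?_)
    have h1 : Nat.card V ≤ Nat.card (cyc ρ N v₀) :=
      le_trans (Nat.card_le_card_of_injective (fun u => (⟨u, hall u⟩ : cyc ρ N z))
        fun a b e => congrArg Subtype.val e) (card_cyc_le h N hz hv00)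
    have h2 : ((cyc ρ N v₀ : Submodule (ZMod q) V) : Set V) = Set.univ := by
      refine Set.eq_of_subset_of_ncard_le (Set.subset_univ _) ?_
      rw [Set.ncard_univ, ← Nat.card_coe_set_eq]
      exact h1
    exact cyc_le hW hv₀ (h2 ▸ Set.mem_univ u : u ∈ ((cyc ρ N v₀ : Submodule (ZMod q) V) : Set V))
  have hann : ∀ x ∈ span ρ N, ∀ z : V, z ≠ 0 → x z = 0 → x = 0 := by
    intro x hx z hz hxz
    have hout : ∀ u, u ∉ cyc ρ N z → x u = 0 := by
      intro u hu
      by_contra hne
      have h1 : x u ∈ cyc ρ N u := ⟨x, hx, rfl⟩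
      have h2 : x u ∈ cyc ρ N (z + u) := ⟨x, hx, by rw [map_add, hxz, zero_add]⟩
      have e : cyc ρ N u = cyc ρ N (z + u) :=
        (cyc_eq_of_mem h N h1 hne).symm.trans (cyc_eq_of_mem h N h2 hne)
      have hzu : z ∈ cyc ρ N u := by
        have := Submodule.sub_mem _ (e ▸ self_mem_cyc N (z + u)) (self_mem_cyc (ρ := ρ) N u)
        rwa [add_sub_cancel_right] at this
      exact hu (cyc_eq_of_mem h N hzu hz ▸ self_mem_cyc N u)
    refine LinearMap.ext fun w => ?_
    by_cases hw : w ∈ cyc ρ N z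
    · obtain ⟨u, hu⟩ := hproper z hz
      have h1 := hout (u + w) fun e => hu (by simpa using Submodule.sub_mem _ e hw)
      rwa [map_add, hout u hu, zero_add] at h1
    · exact hout w hw
  haveI : Finite (Module.End (ZMod q) V) := Finite.of_injective _ DFunLike.coe_injective
  haveI : Nontrivial (span ρ N) := ⟨⟨1, 0, fun e => hv00 (congrArg (fun x : span ρ N => (x : Module.End (ZMod q) V) v₀) e)⟩⟩
  haveI : NoZeroDivisors (span ρ N) := ⟨fun {a b} hab => by
    by_cases hb : (b : Module.End (ZMod q) V) v₀ = 0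
    · exact Or.inr (Subtype.ext (hann _ b.2 v₀ hv00 hb))
    · exact Or.inl (Subtype.ext (hann _ a.2 _ hb (congrArg (fun x : span ρ N => (x : Module.End (ZMod q) V) v₀) hab)))⟩
  haveI : IsDomain (span ρ N) := NoZeroDivisors.to_isDomain _
  refine hN (isMulCommutative_of_span_comm h fun x hx y hy => ?_)
  exact congrArg Subtype.val ((Finite.isDomain_to_isField (span ρ N)).mul_comm ⟨x, hx⟩ ⟨y, hy⟩)

/-- The centraliser of a non-abelian normal subgroup is abelian. -/
theorem centralizer_comm (h : Reg ρ) (N : Subgroup G) [N.Normal] (hN : ¬ IsMulCommutative N) :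
    IsMulCommutative (Subgroup.centralizer (N : Set G)) := by
  haveI : Finite (Module.End (ZMod q) V) := Finite.of_injective _ DFunLike.coe_injective
  let D := Subring.centralizer (lin ρ '' (N : Set G))
  obtain ⟨v₀, hv₀⟩ := exists_ne (0 : V)
  haveI : Nontrivial D := ⟨⟨1, 0, fun e => hv₀ (congrArg (fun x : D => (x : Module.End (ZMod q) V) v₀) e)⟩⟩
  haveI : NoZeroDivisors D := ⟨fun {a b} hab => by
    rcases irreducible_of_not_comm h N hN (LinearMap.ker (a : Module.End (ZMod q) V)) (fun n hn v hv => by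
      rw [LinearMap.mem_ker] at hv ⊢
      have h1 := Subring.mem_centralizer_iff.1 a.2 _ ⟨n, hn, rfl⟩
      show ((a : Module.End (ZMod q) V) * lin ρ n) v = 0
      rw [← h1]
      show ρ n ((a : Module.End (ZMod q) V) v) = 0
      rw [hv, map_zero]) with e | e
    · refine Or.inr (Subtype.ext (LinearMap.ext fun v => ?_))
      have h1 : (b : Module.End (ZMod q) V) v ∈ LinearMap.ker (a : Module.End (ZMod q) V) :=
        congrArg (fun x : D => (x : Module.End (ZMod q) V) v) hab
      rw [e, Submodule.mem_bot] at h1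
      exact h1
    · refine Or.inl (Subtype.ext (LinearMap.ext fun v => ?_))
      exact LinearMap.mem_ker.1 (e ▸ Submodule.mem_top : v ∈ LinearMap.ker (a : Module.End (ZMod q) V))⟩
  haveI : IsDomain D := NoZeroDivisors.to_isDomain _
  have hmem : ∀ c ∈ Subgroup.centralizer (N : Set G), lin ρ c ∈ D := fun c hc => by
    refine Subring.mem_centralizer_iff.2 ?_
    rintro _ ⟨n, hn, rfl⟩
    rw [← map_mul, ← map_mul, Subgroup.mem_centralizer_iff.1 hc n hn]
  refine ⟨⟨fun a b => Subtype.ext (h.inj (LinearEquiv.ext fun v => ?_))⟩⟩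
  have := congrArg (fun x : D => (x : Module.End (ZMod q) V) v)
    ((Finite.isDomain_to_isField D).mul_comm ⟨_, hmem _ a.2⟩ ⟨_, hmem _ b.2⟩)
  show ρ ((a : G) * b) v = ρ ((b : G) * a) v
  rw [act_mul, act_mul]
  exact this

/-! ### The quaternion group -/

/-- The candidate automorphism of the quaternion group attached to a pair. -/
def q8Map (p : QuaternionGroup 2 × QuaternionGroup 2) : QuaternionGroup 2 → QuaternionGroup 2
  | .a k => p.1 ^ k.val
  | .xa k => p.2 * p.1 ^ k.val

theorem q8Map_spec : ∀ p : QuaternionGroup 2 × QuaternionGroup 2, p.1 * p.2 ≠ p.2 * p.1 →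
    (∀ x y, q8Map p (x * y) = q8Map p x * q8Map p y) ∧ (∀ x y, q8Map p x = q8Map p y → x = y) ∧
    q8Map p (.a 1) = p.1 ∧ q8Map p (.xa 0) = p.2 := by
  decide +kernel

theorem q8_normal_form : ∀ u : QuaternionGroup 2, ∃ k : Fin 4,
    u = QuaternionGroup.a 1 ^ (k : ℕ) ∨ u = QuaternionGroup.xa 0 * QuaternionGroup.a 1 ^ (k : ℕ) := by
  decide +kernel

theorem card_mulAut_q8 : Nat.card (MulAut (QuaternionGroup 2)) = 24 := by
  let e : {p : QuaternionGroup 2 × QuaternionGroup 2 // p.1 * p.2 ≠ p.2 * p.1} ≃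
      MulAut (QuaternionGroup 2) :=
    { toFun := fun p => MulEquiv.ofBijective
        (MonoidHom.mk' (q8Map p.1) (q8Map_spec p.1 p.2).1)
        (Finite.injective_iff_bijective.1 (q8Map_spec p.1 p.2).2.1)
      invFun := fun φ => ⟨(φ (.a 1), φ (.xa 0)), fun e => by
        rw [← map_mul, ← map_mul] at e
        exact absurd (φ.injective e) (by decide +kernel)⟩
      left_inv := fun p => Subtype.ext (Prod.ext (q8Map_spec p.1 p.2).2.2.1 (q8Map_spec p.1 p.2).2.2.2)
      right_inv := fun φ => MulEquiv.ext fun u => by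
        show q8Map (φ (.a 1), φ (.xa 0)) u = φ u
        cases u with
        | a k =>
          show φ (.a 1) ^ k.val = φ (.a k)
          rw [← map_pow, QuaternionGroup.a_one_pow, ZMod.natCast_zmod_val]
        | xa k =>
          show φ (.xa 0) * φ (.a 1) ^ k.val = φ (.xa k)
          rw [← map_pow, ← map_mul, QuaternionGroup.a_one_pow, ZMod.natCast_zmod_val,
            QuaternionGroup.xa_mul_a, zero_add] }
  rw [← Nat.card_congr e, Nat.card_eq_fintype_card, q8_card_pairs]

omit [Nontrivial V] in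
theorem exists_small_invariant (I J : Module.End (ZMod q) V)
    (hI2 : ∀ v, I (I v) = -v) (hJ2 : ∀ v, J (J v) = -v) (hJI : ∀ v, J (I v) = -I (J v))
    (h2 : (2 : ZMod q) ≠ 0) [Nontrivial V] {a b : ZMod q} (hb : b ≠ 0) (hab : a ^ 2 + b ^ 2 = -1) :
    ∃ U : Submodule (ZMod q) V, U ≠ ⊥ ∧ Nat.card U ≤ q * q ∧
      (∀ v ∈ U, I v ∈ U) ∧ ∀ v ∈ U, J v ∈ U := by
  let X : Module.End (ZMod q) V := a • I + b • J
  have hX : ∀ v, X (X v) = v := fun v => by
    show a • I (a • I v + b • J v) + b • J (a • I v + b • J v) = v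
    simp only [map_add, map_smul, hI2, hJ2, hJI, smul_add, smul_neg, smul_smul]
    rw [mul_comm b a]
    have : -((a * a + b * b) • v) = v := by rw [← pow_two, ← pow_two, hab, neg_smul, one_smul, neg_neg]
    rw [add_smul] at this
    calc _ = -((a * a) • v + (b * b) • v) := by abel
      _ = v := this
  obtain ⟨v, hv0, hv⟩ : ∃ v, v ≠ 0 ∧ a • I v + b • J v = v := by
    by_contra hno
    push Not at hno
    have hneg : ∀ w, X w = -w := fun w => by
      refine eq_neg_of_add_eq_zero_left (Classical.byContradiction fun hne => hno _ hne ?_)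
      show X (X w + w) = X w + w
      rw [map_add, hX, add_comm]
    obtain ⟨w, hw⟩ := exists_ne (0 : V)
    have h1 : X (I w) = I (X w) := by rw [hneg, hneg, map_neg]
    have h3 : b • ((2 : ZMod q) • I (J w)) = 0 := by
      have h4 : a • I (I w) + b • J (I w) = I (a • I w + b • J w) := h1
      rw [map_add, map_smul, map_smul, hJI, add_right_inj, smul_neg] at h4
      rw [two_smul, smul_add]
      nth_rw 1 [← h4]
      exact neg_add_cancel _
    rw [smul_eq_zero, smul_eq_zero] at h3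
    have h5 : I (J w) = 0 := (h3.resolve_left hb).resolve_left h2
    have h6 := congrArg I h5
    rw [hI2, map_zero, neg_eq_zero] at h6
    have h7 := congrArg J h6
    rw [hJ2, map_zero, neg_eq_zero] at h7
    exact hw h7
  have hJv : J v = b⁻¹ • v + (-(b⁻¹ * a)) • I v := by
    have h1 : b • J v = v - a • I v := eq_sub_of_add_eq' hv
    rw [← inv_smul_smul₀ hb (J v), h1, smul_sub, smul_smul, neg_smul, ← sub_eq_add_neg]
  let f : (ZMod q × ZMod q) →ₗ[ZMod q] V :=
    (LinearMap.toSpanSingleton (ZMod q) V v).coprod (LinearMap.toSpanSingleton (ZMod q) V (I v))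
  have hf : ∀ x y, f (x, y) = x • v + y • I v := fun x y => rfl
  refine ⟨LinearMap.range f, fun e => hv0 ?_, ?_, ?_, ?_⟩
  · have : v ∈ LinearMap.range f := ⟨(1, 0), by rw [hf]; simp⟩
    rw [e] at this
    exact (Submodule.mem_bot _).1 this
  · refine le_trans (Nat.card_le_card_of_surjective (fun x => (⟨f x, x, rfl⟩ : LinearMap.range f))
      (fun ⟨_, x, rfl⟩ => ⟨x, rfl⟩)) ?_
    rw [Nat.card_prod, Nat.card_zmod]
  · rintro _ ⟨⟨x, y⟩, rfl⟩
    refine ⟨(-y, x), ?_⟩
    rw [hf, hf, map_add, map_smul, map_smul, hI2, smul_neg, neg_smul, add_comm]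
  · rintro _ ⟨⟨x, y⟩, rfl⟩
    refine ⟨(x * b⁻¹ + y * -(b⁻¹ * a), x * -(b⁻¹ * a) - y * b⁻¹), ?_⟩
    rw [hf, hf, map_add, map_smul, map_smul, hJI, hJv, map_add, map_smul, map_smul, hI2]
    module

/-- The degrees in the solvable case. -/
theorem degrees (h : Reg ρ) (hI : Reducible ρ) [Group.IsSolvable G] :
    Nat.card V = 25 ∨ Nat.card V = 49 ∨ Nat.card V = 121 ∨ Nat.card V = 529 := by
  classical
  obtain ⟨A, ⟨hAn, hAc⟩, hAmax⟩ := Set.Finite.exists_maximal
    (s := {A : Subgroup G | A.Normal ∧ IsMulCommutative A}) (Set.toFinite _)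
    ⟨⊥, inferInstance, ⟨⟨fun a b => by rw [Subsingleton.elim a b]⟩⟩⟩
  haveI := hAn
  haveI := hAc
  have hmax : ∀ B : Subgroup G, B.Normal → IsMulCommutative B → A ≤ B → B = A :=
    fun B h1 h2 h3 => le_antisymm (hAmax ⟨h1, h2⟩ h3) h3
  haveI : (Subgroup.centralizer (A : Set G)).Normal := inferInstance
  obtain ⟨-, -, P, hPn, hPle, ⟨e⟩⟩ := exists_quaternion h A hmax (Subgroup.centralizer (A : Set G))
    (Subgroup.le_centralizer A) le_rfl (centralizer_ne h hI A)
  haveI := hPn
  have hPna : ¬ IsMulCommutative P := fun hc => by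
    have h1 := congrArg e (hc.is_comm.comm (e.symm (.a 1)) (e.symm (.xa 0)))
    rw [map_mul, map_mul, e.apply_symm_apply, e.apply_symm_apply] at h1
    exact absurd h1 (by decide +kernel)
  have hC : Subgroup.centralizer (P : Set G) = A :=
    hmax _ inferInstance (centralizer_comm h P hPna) (Subgroup.le_centralizer_iff.1 hPle)
  have hP8 : Nat.card P = 8 := by rw [Nat.card_congr e.toEquiv, Nat.card_eq_fintype_card, QuaternionGroup.card]
  have h8 : 8 ∣ Nat.card G := hP8 ▸ Subgroup.card_subgroup_dvd_card P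
  have hq2 : q ≠ 2 := fun e2 => not_dvd_card (q := q) h (e2 ▸ (Dvd.dvd.trans (by norm_num) h8))
  have h2 : (2 : ZMod q) ≠ 0 := fun e2 => hq2 ((Nat.prime_dvd_prime_iff_eq Fact.out Nat.prime_two).1
    ((ZMod.natCast_eq_zero_iff _ _).1 (by exact_mod_cast e2)))
  set i : G := ((e.symm (.a 1) : P) : G) with hi
  set j : G := ((e.symm (.xa 0) : P) : G) with hj
  have hQ : ∀ x y : QuaternionGroup 2, ((e.symm (x * y) : P) : G) = (e.symm x : P) * (e.symm y : P) :=
    fun x y => by rw [map_mul]; rfl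
  have hz : ((e.symm (QuaternionGroup.a 2) : P) : G) ^ 2 = 1 ∧ ((e.symm (QuaternionGroup.a 2) : P) : G) ≠ 1 := by
    constructor
    · rw [pow_two, ← hQ, show (QuaternionGroup.a 2 : QuaternionGroup 2) * QuaternionGroup.a 2 = 1 by decide +kernel,
        map_one, Subgroup.coe_one]
    · intro h1
      have h3 : e.symm (QuaternionGroup.a 2) = 1 := Subtype.ext h1
      rw [MulEquiv.map_eq_one_iff] at h3
      exact absurd h3 (by decide +kernel)
  have hneg := fun v => neg_of_involution h hz.1 hz.2 v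
  have hii : ∀ v, ρ i (ρ i v) = -v := fun v => by
    rw [← act_mul, hi, ← hQ, show (QuaternionGroup.a 1 : QuaternionGroup 2) * QuaternionGroup.a 1 = QuaternionGroup.a 2 by decide +kernel]
    exact hneg v
  have hjj : ∀ v, ρ j (ρ j v) = -v := fun v => by
    rw [← act_mul, hj, ← hQ, show (QuaternionGroup.xa 0 : QuaternionGroup 2) * QuaternionGroup.xa 0 = QuaternionGroup.a 2 by decide +kernel]
    exact hneg v
  have hji : ∀ v, ρ j (ρ i v) = -ρ i (ρ j v) := fun v => by
    rw [← hneg, ← act_mul, ← act_mul, ← act_mul, hi, hj, ← hQ, ← hQ, ← hQ,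
      show (QuaternionGroup.xa 0 : QuaternionGroup 2) * QuaternionGroup.a 1 =
        QuaternionGroup.a 2 * (QuaternionGroup.a 1 * QuaternionGroup.xa 0) by decide +kernel, mul_assoc]
  have hsmall : Nat.card V ≤ q * q := by
    obtain ⟨a, b, hab⟩ := ZMod.sq_add_sq q (-1 : ZMod q)
    obtain ⟨U, hU0, hUc, hUi, hUj⟩ : ∃ U : Submodule (ZMod q) V, U ≠ ⊥ ∧ Nat.card U ≤ q * q ∧
        (∀ v ∈ U, ρ i v ∈ U) ∧ ∀ v ∈ U, ρ j v ∈ U := by
      by_cases hb : b = 0
      · have ha : a ≠ 0 := fun ha => by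
          rw [ha, hb] at hab
          simp at hab
        have hij : ∀ v, ρ i (ρ j v) = -ρ j (ρ i v) := fun v => by rw [hji, neg_neg]
        obtain ⟨U, h1, h2', h3, h4⟩ := exists_small_invariant (lin ρ j) (lin ρ i) hjj hii hij h2 ha
          (by rw [add_comm]; exact hab)
        exact ⟨U, h1, h2', h4, h3⟩
      · exact exists_small_invariant (lin ρ i) (lin ρ j) hii hjj hji h2 hb hab
    have hpow : ∀ k : ℕ, ∀ v ∈ U, ρ (i ^ k) v ∈ U := by
      intro k
      induction k with
      | zero => intro v hv; rw [pow_zero, act_one]; exact hv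
      | succ k ih => intro v hv; rw [pow_succ, act_mul]; exact ih _ (hUi v hv)
    rcases irreducible_of_not_comm h P hPna U (fun n hn v hv => by
      obtain ⟨k, hk | hk⟩ := q8_normal_form (e ⟨n, hn⟩)
      · have hn' : n = i ^ (k : ℕ) := by
          rw [hi, ← SubgroupClass.coe_pow, ← map_pow, ← hk, e.symm_apply_apply]
        rw [hn']
        exact hpow _ v hv
      · have hn' : n = j * i ^ (k : ℕ) := by
          rw [hi, hj, ← SubgroupClass.coe_pow, ← map_pow, ← hQ, ← hk, e.symm_apply_apply]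
        rw [hn', act_mul]
        exact hUj _ (hpow _ v hv)) with e' | e'
    · exact absurd e' hU0
    · refine le_trans (le_of_eq ?_) hUc
      rw [e']
      exact (Nat.card_congr (Equiv.subtypeUnivEquiv fun x => Submodule.mem_top)).symm
  obtain ⟨e₁, d, he, hd, -, hV, hA, -⟩ := exponent_two_le h hI A
  have hq := (Fact.out : q.Prime).two_le
  have hed : e₁ * d = 2 := by
    have h1 : q ^ (e₁ * d) ≤ q ^ 2 := by rw [pow_mul, ← hV, pow_two]; exact hsmall
    have h3 := (Nat.pow_le_pow_iff_right (by omega)).1 h1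
    have h4 : 1 * 2 ≤ e₁ * d := Nat.mul_le_mul he hd
    omega
  obtain rfl : e₁ = 1 := by
    rcases Nat.lt_or_ge e₁ 2 with h1 | h1
    · omega
    · have := Nat.mul_le_mul h1 hd
      omega
  obtain rfl : d = 2 := by omega
  rw [pow_one] at hV hA
  let f : G →* MulAut P := MulAut.conjNormal
  have hf : f.ker = A := by
    rw [← hC]
    ext g
    rw [MonoidHom.mem_ker, Subgroup.mem_centralizer_iff]
    constructor
    · intro h1 x hx
      have h3 : ((f g) ⟨x, hx⟩ : G) = x := by rw [h1]; rfl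
      rw [show ((f g) ⟨x, hx⟩ : G) = g * x * g⁻¹ from MulAut.conjNormal_apply g ⟨x, hx⟩,
        mul_inv_eq_iff_eq_mul] at h3
      exact h3.symm
    · intro h1
      refine MulEquiv.ext fun x => Subtype.ext ?_
      rw [show ((f g) x : G) = g * x * g⁻¹ from MulAut.conjNormal_apply g x, ← h1 x x.2, mul_inv_cancel_right]
      rfl
  have hr : Nat.card f.range ∣ 24 := by
    have h1 := Subgroup.card_subgroup_dvd_card f.range
    rwa [show Nat.card (MulAut P) = Nat.card (MulAut (QuaternionGroup 2)) from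
      Nat.card_congr (MulAut.congr e).toEquiv, card_mulAut_q8] at h1
  have hG : Nat.card G = Nat.card f.range * Nat.card A := by
    rw [Subgroup.card_eq_card_quotient_mul_card_subgroup f.ker,
      Nat.card_congr (QuotientGroup.quotientKerEquivRange f).toEquiv, hf]
  have hGV := card_space h
  obtain ⟨t, ht⟩ := hA
  obtain ⟨p', rfl⟩ : ∃ p', q = p' + 1 := ⟨q - 1, by omega⟩
  rw [Nat.add_sub_cancel] at ht
  have hrt : Nat.card f.range = (p' + 2) * t := by
    have h1 : Nat.card f.range * Nat.card A + 1 = (p' + 1) ^ 2 := by rw [← hV, hGV, hG]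
    refine Nat.eq_of_mul_eq_mul_right (Nat.card_pos : 0 < Nat.card A) ?_
    subst ht
    nlinarith
  have hdvd : p' + 2 ∣ 24 := (Dvd.intro t hrt.symm).trans hr
  have hle : p' + 2 ≤ 24 := Nat.le_of_dvd (by norm_num) hdvd
  rw [hV]
  have hp : (p' + 1).Prime := Fact.out
  by_cases h3 : p' = 2
  · exfalso
    subst h3
    have hG8 : Nat.card G = 8 := by
      have : Nat.card G + 1 = 9 := by rw [← hGV, hV]; norm_num
      omega
    have hPtop : P = ⊤ := Subgroup.eq_top_of_card_eq P (by rw [hP8, hG8])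
    let Z := Subgroup.zpowers i
    have hi4 : orderOf i = 4 := by
      rw [hi, Subgroup.orderOf_coe, MulEquiv.orderOf_eq, QuaternionGroup.orderOf_a_one]
    have hZc : Nat.card Z = 4 := by rw [Nat.card_zpowers, hi4]
    haveI : Z.Normal := Subgroup.normal_of_index_eq_two (by
      have := Z.card_mul_index
      rw [hZc, hG8] at this
      omega)
    have hAZ : A ≤ Z := by
      intro x hx
      by_cases hx1 : x = 1
      · rw [hx1]; exact one_mem _
      have hx2 : x ^ 2 = 1 := by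
        have h5 : Nat.card A ∣ 2 := Dvd.intro t ht.symm
        exact congrArg Subtype.val (orderOf_dvd_iff_pow_eq_one.1 ((orderOf_dvd_natCard (⟨x, hx⟩ : A)).trans h5))
      have hi2 : (i ^ 2) ^ 2 = 1 := by rw [← pow_mul, show 2 * 2 = orderOf i by rw [hi4], pow_orderOf_eq_one]
      rw [involution_unique h hx2 hx1 hi2 (fun e2 => by
        have := orderOf_dvd_of_pow_eq_one e2
        rw [hi4] at this
        exact absurd this (by norm_num))]
      exact pow_mem (Subgroup.mem_zpowers i) 2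
    have h6 := hmax Z inferInstance inferInstance hAZ
    have h7 : Nat.card A ≤ 2 := Nat.le_of_dvd two_pos (Dvd.intro t ht.symm)
    rw [← h6, hZc] at h7
    omega
  · have hp' : p' ≤ 22 := by omega
    interval_cases p' <;> first | (norm_num at hp; done) | (norm_num at hdvd; done) | omega | norm_num

end Cfsg.Agent.NearField
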