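import Cfsg.Agent.Lib.AutPSL.Outer
import Mathlib.FieldTheory.Finite.Basic
import Mathlib.RingTheory.IntegralDomain
import Mathlib.LinearAlgebra.Dimension.Free
import Mathlib.RingTheory.SimpleRing.Basic
import Mathlib.Algebra.Module.ZMod

/-!
# Groups regular on the non-zero vectors of a space over a prime field

A normal abelian subgroup spans a field over which the group is semilinear.
-/

set_option autoImplicit false

namespace Cfsg.Agent.NearField

variable {q : ℕ} [Fact q.Prime] {V : Type*} [AddCommGroup V] [Module (ZMod q) V] [Finite V]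
  [Nontrivial V] {G : Type*} [Group G] [Finite G] (ρ : G →* (V ≃ₗ[ZMod q] V))

/-- The hypothesis: regular on the non-zero vectors. -/
structure Reg : Prop where
  inj : Function.Injective ρ
  trans : ∀ v w : V, v ≠ 0 → w ≠ 0 → ∃ g : G, ρ g v = w
  free : ∀ v : V, v ≠ 0 → ∀ g : G, ρ g v = v → g = 1

variable {ρ}

theorem act_mul (a b : G) (v : V) : ρ (a * b) v = ρ a (ρ b v) := by rw [map_mul]; rfl

theorem act_one (v : V) : ρ 1 v = v := by rw [map_one]; rfl

theorem act_inv (a : G) (v : V) : ρ a (ρ a⁻¹ v) = v := by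
  rw [← act_mul, mul_inv_cancel, act_one]

theorem card_space (h : Reg ρ) : Nat.card V = Nat.card G + 1 := by
  obtain ⟨v₀, hv₀⟩ := exists_ne (0 : V)
  have hb : Function.Bijective fun g : G =>
      (⟨ρ g v₀, (map_ne_zero_iff (ρ g) (ρ g).injective).mpr hv₀⟩ : {v : V // v ≠ 0}) := by
    refine ⟨fun a b hab => ?_, fun w => ?_⟩
    · have e : ρ a v₀ = ρ b v₀ := congrArg Subtype.val hab
      refine (inv_mul_eq_one.mp (h.free v₀ hv₀ (a⁻¹ * b) ?_))
      rw [act_mul, ← e, ← act_mul, inv_mul_cancel, act_one]
    · obtain ⟨g, hg⟩ := h.trans v₀ w hv₀ w.2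
      exact ⟨g, Subtype.ext hg⟩
  classical
  letI := Fintype.ofFinite V
  rw [Nat.card_eq_of_bijective _ hb, Nat.card_eq_fintype_card, Nat.card_eq_fintype_card,
    Fintype.card_subtype_compl, Fintype.card_subtype_eq]
  have : 0 < Fintype.card V := Fintype.card_pos
  omega

theorem dvd_card_space : q ∣ Nat.card V := by
  obtain ⟨v, hv⟩ := exists_ne (0 : V)
  have ho : addOrderOf v = q := addOrderOf_eq_prime
    (by rw [← Nat.cast_smul_eq_nsmul (ZMod q), ZMod.natCast_self, zero_smul]) hv
  exact ho ▸ addOrderOf_dvd_natCard v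

theorem not_dvd_card (h : Reg ρ) : ¬ q ∣ Nat.card G := by
  intro hd
  have h1 : q ∣ Nat.card G + 1 := card_space h ▸ dvd_card_space (q := q) (V := V)
  exact (Fact.out : q.Prime).not_dvd_one ((Nat.dvd_add_right hd).mp h1)

theorem norm_eq_zero (h : Reg ρ) {g : G} (hg : g ≠ 1) {r : ℕ} (hr : g ^ r = 1) (v : V) :
    ∑ j ∈ Finset.range r, ρ (g ^ j) v = 0 := by
  by_contra hne
  refine hg (h.free _ hne g ?_)
  rw [map_sum]
  simp only [← act_mul, ← pow_succ']
  cases r with
  | zero => simp at hne
  | succ k =>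
    rw [Finset.sum_range_succ' (fun j => ρ (g ^ j) v) k, Finset.sum_range_succ, hr, pow_zero]

/-- Commuting elements of the same prime order generate the same subgroup. -/
theorem mem_zpowers_of_commute (h : Reg ρ) {r : ℕ} (hr : r.Prime) {u w : G} (hu : u ^ r = 1)
    (hw : w ^ r = 1) (hw1 : w ≠ 1) (hc : Commute u w) : u ∈ Subgroup.zpowers w := by
  by_contra hmem
  have hne : ∀ i : ℕ, u * w ^ i ≠ 1 := fun i hi => hmem (by
    rw [eq_inv_of_mul_eq_one_left hi]
    exact inv_mem (pow_mem (Subgroup.mem_zpowers w) i))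
  obtain ⟨v, hv⟩ := exists_ne (0 : V)
  have h1 : ∑ i ∈ Finset.range r, ∑ j ∈ Finset.range r, ρ ((u * w ^ i) ^ j) v = 0 :=
    Finset.sum_eq_zero fun i _ => norm_eq_zero h (hne i) (by
      rw [(hc.pow_right i).mul_pow, hu, ← pow_mul, mul_comm i r, pow_mul, hw, one_pow, one_mul]) v
  rw [Finset.sum_comm] at h1
  have h2 : ∀ j ∈ Finset.range r,
      ∑ i ∈ Finset.range r, ρ ((u * w ^ i) ^ j) v = if j = 0 then (r : ℕ) • v else 0 := by
    intro j hj
    split_ifs with hj0
    · subst hj0; simp
    · have e : ∀ i, ρ ((u * w ^ i) ^ j) v = ρ (u ^ j) (ρ ((w ^ j) ^ i) v) := fun i => by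
        rw [← act_mul, (hc.pow_right i).mul_pow, ← pow_mul, ← pow_mul, mul_comm i j]
      rw [Finset.sum_congr rfl fun i _ => e i, ← map_sum, norm_eq_zero h (fun hwj => ?_)
        (by rw [← pow_mul, mul_comm, pow_mul, hw, one_pow]) v, map_zero]
      haveI := Fact.mk hr
      have := orderOf_dvd_of_pow_eq_one hwj
      rw [orderOf_eq_prime hw hw1] at this
      exact absurd (Nat.le_of_dvd (by omega) this) (by have := Finset.mem_range.mp hj; omega)
  rw [Finset.sum_congr rfl h2, Finset.sum_ite_eq' (Finset.range r) 0 fun _ => (r : ℕ) • v,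
    if_pos (Finset.mem_range.mpr hr.pos)] at h1
  haveI := Fact.mk hr
  have ho : addOrderOf v = r := addOrderOf_eq_prime h1 hv
  have hoq : addOrderOf v = q := addOrderOf_eq_prime
    (by rw [← Nat.cast_smul_eq_nsmul (ZMod q), ZMod.natCast_self, zero_smul]) hv
  refine not_dvd_card h ?_
  exact (dvd_of_eq ((hoq.symm.trans ho).trans (orderOf_eq_prime hw hw1).symm)).trans
    (orderOf_dvd_natCard w)

theorem neg_of_involution (h : Reg ρ) {t : G} (ht : t ^ 2 = 1) (ht1 : t ≠ 1) (v : V) :
    ρ t v = -v := by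
  have := norm_eq_zero h ht1 ht v
  rw [Finset.sum_range_succ, Finset.sum_range_one, pow_zero, pow_one, act_one] at this
  exact eq_neg_of_add_eq_zero_right this

theorem involution_unique (h : Reg ρ) {s t : G} (hs : s ^ 2 = 1) (hs1 : s ≠ 1) (ht : t ^ 2 = 1)
    (ht1 : t ≠ 1) : s = t :=
  h.inj (LinearEquiv.ext fun v => by rw [neg_of_involution h hs hs1, neg_of_involution h ht ht1])

/-! ### The field spanned by a normal abelian subgroup -/

variable (ρ)

/-- The linear map of a group element. -/
noncomputable def lin : G →* Module.End (ZMod q) V where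
  toFun g := (ρ g).toLinearMap
  map_one' := by rw [map_one]; rfl
  map_mul' a b := by rw [map_mul]; rfl

@[simp] theorem lin_apply (g : G) (v : V) : lin ρ g v = ρ g v := rfl

/-- The subring of endomorphisms generated by a subgroup. -/
noncomputable def span (A : Subgroup G) : Subring (Module.End (ZMod q) V) :=
  Subring.closure (lin ρ '' A)

variable {ρ}

theorem lin_mem (A : Subgroup G) {a : G} (ha : a ∈ A) : lin ρ a ∈ span ρ A :=
  Subring.subset_closure ⟨a, ha, rfl⟩

theorem span_comm (A : Subgroup G) [IsMulCommutative A] :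
    ∀ x ∈ span ρ A, ∀ y ∈ span ρ A, x * y = y * x := by
  intro x hx y hy
  have hb : ∀ a ∈ lin ρ '' (A : Set G), ∀ b ∈ lin ρ '' (A : Set G), a * b = b * a := by
    rintro _ ⟨a, ha, rfl⟩ _ ⟨b, hb, rfl⟩
    rw [← map_mul, ← map_mul, ← show (⟨a, ha⟩ * ⟨b, hb⟩ : A).1 = a * b from rfl, mul_comm']
    rfl
  letI := Subring.closureCommRingOfComm hb
  exact congrArg Subtype.val (mul_comm (⟨x, hx⟩ : Subring.closure (lin ρ '' (A : Set G))) ⟨y, hy⟩)

theorem conj_mem (A : Subgroup G) [A.Normal] (g : G) :
    ∀ x ∈ span ρ A, lin ρ g * x * lin ρ g⁻¹ ∈ span ρ A := by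
  intro x hx
  have hgg : lin ρ g⁻¹ * lin ρ g = 1 := by rw [← map_mul, inv_mul_cancel, map_one]
  induction hx using Subring.closure_induction with
  | mem y hy =>
    obtain ⟨a, ha, rfl⟩ := hy
    rw [← map_mul, ← map_mul]
    exact lin_mem A (Subgroup.Normal.conj_mem inferInstance a ha g)
  | zero => rw [mul_zero, zero_mul]; exact zero_mem _
  | one => rw [mul_one, ← map_mul, mul_inv_cancel, map_one]; exact one_mem _
  | add a b _ _ ha hb => rw [mul_add, add_mul]; exact add_mem ha hb
  | neg a _ ha => rw [mul_neg, neg_mul]; exact neg_mem ha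
  | mul a b _ _ ha hb =>
    convert mul_mem ha hb using 1
    simp only [mul_assoc]
    rw [← mul_assoc (lin ρ g⁻¹) (lin ρ g), hgg, one_mul]

/-- Conjugation on the span, as a ring automorphism. -/
noncomputable def conjAut (A : Subgroup G) [A.Normal] : G →* (span ρ A ≃+* span ρ A) where
  toFun g :=
    { toFun := fun x => ⟨lin ρ g * x * lin ρ g⁻¹, conj_mem (ρ := ρ) A g x x.2⟩
      invFun := fun x => ⟨lin ρ g⁻¹ * x * lin ρ g, by simpa using conj_mem (ρ := ρ) A g⁻¹ x x.2⟩
      left_inv := fun x => by
        refine Subtype.ext (LinearMap.ext fun v => ?_)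
        simp [← act_mul]
      right_inv := fun x => by
        refine Subtype.ext (LinearMap.ext fun v => ?_)
        simp [← act_mul]
      map_mul' := fun x y => by
        refine Subtype.ext (LinearMap.ext fun v => ?_)
        simp [← act_mul]
      map_add' := fun x y => by
        refine Subtype.ext (LinearMap.ext fun v => ?_)
        simp }
  map_one' := by
    refine RingEquiv.ext fun x => Subtype.ext (LinearMap.ext fun v => ?_)
    simp [act_one]
  map_mul' g g' := by
    refine RingEquiv.ext fun x => Subtype.ext (LinearMap.ext fun v => ?_)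
    simp [act_mul, mul_inv_rev]

theorem conjAut_apply (A : Subgroup G) [A.Normal] (g : G) (x : span ρ A) (v : V) :
    (conjAut A g x : Module.End (ZMod q) V) (ρ g v) = ρ g ((x : Module.End (ZMod q) V) v) := by
  show ρ g ((x : Module.End (ZMod q) V) (ρ g⁻¹ (ρ g v))) = _
  rw [← act_mul, inv_mul_cancel, act_one]

theorem mul_eq_zero_iff (h : Reg ρ) (A : Subgroup G) [A.Normal] [IsMulCommutative A]
    {k k' : span ρ A} (hkk : k * k' = 0) : k = 0 ∨ k' = 0 := by
  haveI : Finite (Module.End (ZMod q) V) := Finite.of_injective _ DFunLike.coe_injective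
  have hinj : ∀ a b : V, a ≠ 0 → b ≠ 0 →
      Nat.card {x : span ρ A // (x : Module.End (ZMod q) V) a = 0} ≤
      Nat.card {x : span ρ A // (x : Module.End (ZMod q) V) b = 0} := by
    intro a b ha hb
    obtain ⟨g, rfl⟩ := h.trans a b ha hb
    refine Nat.card_le_card_of_injective
      (fun x => ⟨conjAut A g x.1, by rw [conjAut_apply, x.2, map_zero]⟩) fun x y hxy => ?_
    exact Subtype.ext ((conjAut A g).injective (congrArg Subtype.val hxy))
  have hkv : ∀ v : V, (k : Module.End (ZMod q) V) v = 0 ∨ (k' : Module.End (ZMod q) V) v = 0 := by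
    intro v
    by_cases hv : (k' : Module.End (ZMod q) V) v = 0
    · exact Or.inr hv
    left
    have hv0 : v ≠ 0 := fun e => hv (by rw [e, map_zero])
    have hwit : ∀ y : span ρ A, (y : Module.End (ZMod q) V) v = 0 →
        (y : Module.End (ZMod q) V) ((k' : Module.End (ZMod q) V) v) = 0 := fun y hy => by
      show ((y : Module.End (ZMod q) V) * k') v = 0
      rw [span_comm A _ y.2 _ k'.2]
      show (k' : Module.End (ZMod q) V) ((y : Module.End (ZMod q) V) v) = 0
      rw [hy, map_zero]
    have hsur : Function.Surjective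
        (fun y : {y : span ρ A // (y : Module.End (ZMod q) V) v = 0} =>
          (⟨y.1, hwit y.1 y.2⟩ : {y : span ρ A //
            (y : Module.End (ZMod q) V) ((k' : Module.End (ZMod q) V) v) = 0})) :=
      ((Nat.bijective_iff_injective_and_card _).mpr
        ⟨fun a b hab => Subtype.ext (congrArg (fun z => z.1) hab),
          le_antisymm (hinj v _ hv0 hv) (hinj _ v hv hv0)⟩).surjective
    obtain ⟨z, hz⟩ := hsur ⟨k, by
      show ((k : Module.End (ZMod q) V) * k') v = 0
      rw [show (k : Module.End (ZMod q) V) * k' = 0 from congrArg Subtype.val hkk]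
      rfl⟩
    exact (congrArg (fun t => t.1) hz : z.1 = k) ▸ z.2
  by_contra hcon
  push Not at hcon
  obtain ⟨v, hv⟩ : ∃ v, (k : Module.End (ZMod q) V) v ≠ 0 := by
    by_contra hh
    push Not at hh
    exact hcon.1 (Subtype.ext (LinearMap.ext hh))
  obtain ⟨w, hw⟩ : ∃ w, (k' : Module.End (ZMod q) V) w ≠ 0 := by
    by_contra hh
    push Not at hh
    exact hcon.2 (Subtype.ext (LinearMap.ext hh))
  have hk'v := (hkv v).resolve_left hv
  have hkw := (hkv w).resolve_right hw
  rcases hkv (v + w) with e | e <;> rw [map_add] at e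
  · rw [hkw, add_zero] at e; exact hv e
  · rw [hk'v, zero_add] at e; exact hw e

theorem isField_span (h : Reg ρ) (A : Subgroup G) [A.Normal] [IsMulCommutative A] :
    IsField (span ρ A) := by
  haveI : Finite (Module.End (ZMod q) V) := Finite.of_injective _ DFunLike.coe_injective
  letI : CommRing (span ρ A) :=
    { (inferInstance : Ring (span ρ A)) with
      mul_comm := fun x y => Subtype.ext (span_comm A _ x.2 _ y.2) }
  haveI : NoZeroDivisors (span ρ A) := ⟨fun {a b} hab => mul_eq_zero_iff h A hab⟩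
  haveI : Nontrivial (span ρ A) := by
    obtain ⟨v, hv⟩ := exists_ne (0 : V)
    exact ⟨⟨1, 0, fun e => hv (congrArg (fun x : span ρ A => (x : Module.End (ZMod q) V) v) e)⟩⟩
  haveI : IsDomain (span ρ A) := NoZeroDivisors.to_isDomain _
  exact Finite.isField_of_domain (span ρ A)

/-- The numerical data of the field spanned by a normal abelian subgroup. -/
theorem field_data (h : Reg ρ) (A : Subgroup G) [A.Normal] [IsMulCommutative A] :
    ∃ e d : ℕ, 0 < e ∧ 0 < d ∧ Nat.card (span ρ A) = q ^ e ∧ Nat.card V = (q ^ e) ^ d ∧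
      Nat.card A ∣ q ^ e - 1 ∧ IsCyclic A ∧ IsCyclic (conjAut (ρ := ρ) A).range ∧
      Nat.card (conjAut (ρ := ρ) A).range ∣ e ∧
      (∀ c, conjAut (ρ := ρ) A c = 1 ↔ c ∈ Subgroup.centralizer (A : Set G)) ∧
      (d = 1 → ∀ v₀ : V, v₀ ≠ 0 → Function.Bijective
        fun k : span ρ A => (k : Module.End (ZMod q) V) v₀) := by
  haveI : Finite (Module.End (ZMod q) V) := Finite.of_injective _ DFunLike.coe_injective
  letI := (isField_span h A).toField
  letI := Fintype.ofFinite (span ρ A)
  obtain ⟨p, hp⟩ := CharP.exists (span ρ A)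
  obtain ⟨n, hp', hn⟩ := FiniteField.card (span ρ A) p
  have hq : (q : span ρ A) = 0 := by
    refine Subtype.ext (LinearMap.ext fun v => ?_)
    rw [SubringClass.coe_natCast, Module.End.natCast_apply]
    show q • v = 0
    rw [← Nat.cast_smul_eq_nsmul (ZMod q), ZMod.natCast_self, zero_smul]
  have hpq : p = q := (Nat.prime_dvd_prime_iff_eq hp' Fact.out).mp ((CharP.cast_eq_zero_iff _ p q).mp hq)
  subst hpq
  have hK : Nat.card (span ρ A) = p ^ (n : ℕ) := by rw [Nat.card_eq_fintype_card, hn]
  obtain ⟨E⟩ := AutPSL.exists_ringAut_equiv (F := span ρ A) p n hn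
  letI : Module (span ρ A) V := inferInstance
  have hV : Nat.card V = (p ^ (n : ℕ)) ^ Module.finrank (span ρ A) V := by
    rw [← hK]; exact Module.natCard_eq_pow_finrank
  refine ⟨n, Module.finrank (span ρ A) V, n.pos, ?_, hK, hV, ?_, ?_, ?_, ?_, ?_, ?_⟩
  · rcases Nat.eq_zero_or_pos (Module.finrank (span ρ A) V) with e | e
    · rw [e, pow_zero] at hV
      have : 1 < Nat.card V := Finite.one_lt_card
      omega
    · exact e
  all_goals try let f : A →* span ρ A :=
    { toFun := fun a => ⟨lin ρ a, lin_mem A a.2⟩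
      map_one' := Subtype.ext (map_one _)
      map_mul' := fun a b => Subtype.ext (map_mul _ _ _) }
  all_goals try have hf : Function.Injective f := fun a b e => Subtype.ext (h.inj
    (LinearEquiv.ext fun v => congrArg (fun x : span ρ A => (x : Module.End (ZMod p) V) v) e))
  · have hu : Function.Injective f.toHomUnits := fun a b e => hf (congrArg Units.val e)
    have := Subgroup.card_dvd_of_injective f.toHomUnits hu
    rw [Nat.card_units, hK] at this
    exact this
  · exact isCyclic_of_subgroup_isDomain f hf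
  · haveI : IsCyclic ((span ρ A) ≃+* (span ρ A)) := E.isCyclic.mpr inferInstance
    exact Subgroup.isCyclic _
  · refine (Subgroup.card_subgroup_dvd_card _).trans (dvd_of_eq ?_)
    rw [Nat.card_congr E.toEquiv, Nat.card_congr Multiplicative.toAdd, Nat.card_zmod]
  · intro c
    constructor
    · intro hc
      refine Subgroup.mem_centralizer_iff.mpr fun a ha => h.inj (LinearEquiv.ext fun v => ?_)
      have := conjAut_apply A c ⟨lin ρ a, lin_mem A ha⟩ v
      rw [hc] at this
      rw [act_mul, act_mul]
      exact this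
    · intro hc
      refine RingEquiv.ext fun x => Subtype.ext ?_
      show lin ρ c * (x : Module.End (ZMod p) V) * lin ρ c⁻¹ = (x : Module.End (ZMod p) V)
      obtain ⟨x, hx⟩ := x
      have key : lin ρ c * x = x * lin ρ c := by
        induction hx using Subring.closure_induction with
        | mem y hy =>
          obtain ⟨a, ha, rfl⟩ := hy
          rw [← map_mul, ← map_mul, Subgroup.mem_centralizer_iff.mp hc a ha]
        | zero => rw [mul_zero, zero_mul]
        | one => rw [mul_one, one_mul]
        | add a b _ _ ha hb => rw [mul_add, add_mul, ha, hb]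
        | neg a _ ha => rw [mul_neg, neg_mul, ha]
        | mul a b _ _ ha hb => rw [← mul_assoc, ha, mul_assoc, hb, mul_assoc]
      show lin ρ c * x * lin ρ c⁻¹ = x
      rw [key, mul_assoc, ← map_mul, mul_inv_cancel, map_one, mul_one]
  · intro hd v₀ hv₀
    rw [hd, pow_one, ← hK] at hV
    refine (Nat.bijective_iff_injective_and_card _).mpr ⟨fun a b e => ?_, hV.symm⟩
    exact smul_left_injective (span ρ A) hv₀ e

end Cfsg.Agent.NearField
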