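import Cfsg.Agent.Lib.NearField.Basic
import Cfsg.Agent.Lib.Solvable.Basic
import Cfsg.Agent.Lib.TwoGroups.Lifts
import Mathlib.GroupTheory.SpecificGroups.Quaternion
import Mathlib.GroupTheory.Solvable
import Mathlib.Data.Nat.Choose.Dvd

/-!
# The quaternion normal subgroup in the exceptional regular groups
-/

set_option autoImplicit false

namespace Cfsg.Agent.NearField

/-- Two elements of the quaternion group that do not commute reach every element. -/
theorem q8_cover : ∀ a b u : QuaternionGroup 2, a * b ≠ b * a →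
    u ∈ [1, a * a, a, a * a * a, b, b * b * b, a * b, b * a] := by decide +kernel

theorem q8_card_pairs :
    Fintype.card {p : QuaternionGroup 2 × QuaternionGroup 2 // p.1 * p.2 ≠ p.2 * p.1} = 24 := by
  decide +kernel

variable {q : ℕ} [Fact q.Prime] {V : Type*} [AddCommGroup V] [Module (ZMod q) V] [Finite V]
  [Nontrivial V] {G : Type*} [Group G] [Finite G] {ρ : G →* (V ≃ₗ[ZMod q] V)}

theorem choose_two_even_or {p : ℕ} (hp : p.Prime) : p = 2 ∨ p ∣ p.choose 2 := by
  rcases hp.eq_two_or_odd with h | h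
  · exact Or.inl h
  · exact Or.inr (hp.dvd_choose_self (by norm_num) (by have := hp.two_le; omega))

/-- A normal subgroup of class two over a maximal normal abelian subgroup contains a normal
quaternion group. -/
theorem exists_quaternion (h : Reg ρ) [Group.IsSolvable G] (A : Subgroup G) [A.Normal]
    [IsMulCommutative A]
    (hmax : ∀ B : Subgroup G, B.Normal → IsMulCommutative B → A ≤ B → B = A)
    (D : Subgroup G) [D.Normal] (hAD : A ≤ D) (hDC : D ≤ Subgroup.centralizer (A : Set G))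
    (hne : D ≠ A) :
    2 ∣ Nat.card A ∧ ¬ 4 ∣ Nat.card A ∧ ∃ P : Subgroup G, P.Normal ∧ P ≤ D ∧
      Nonempty (P ≃* QuaternionGroup 2) := by
  have hcyc : IsCyclic A := by
    obtain ⟨e, d, -, -, -, -, -, hc, -⟩ := field_data h A
    exact hc
  have hD : D.map (QuotientGroup.mk' A) ≠ ⊥ := by
    intro e
    rw [Subgroup.map_eq_bot_iff, QuotientGroup.ker_mk'] at e
    exact hne (le_antisymm e hAD)
  haveI hDn : (D.map (QuotientGroup.mk' A)).Normal :=
    Subgroup.Normal.map inferInstance _ (QuotientGroup.mk'_surjective A)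
  obtain ⟨Mb, p, hp, hMbn, hMb, hMbD, hMbc, hMbp, -, -⟩ :=
    SolvBasic.exists_minimal_normal_abelian hDn hD
  haveI := Fact.mk hp
  haveI := hMbn
  set M := Mb.comap (QuotientGroup.mk' A) with hM
  haveI : M.Normal := Subgroup.normal_comap _
  have hAM : A ≤ M := fun a ha => by
    show QuotientGroup.mk' A a ∈ Mb
    rw [show QuotientGroup.mk' A a = 1 from (QuotientGroup.eq_one_iff a).mpr ha]
    exact one_mem _
  have hMD : M ≤ D := fun m hm => by
    obtain ⟨d, hd, hde⟩ := hMbD hm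
    have hmem : d⁻¹ * m ∈ A := QuotientGroup.eq.mp hde
    simpa using mul_mem hd (hAD hmem)
  have hcen : ∀ m ∈ M, ∀ a ∈ A, Commute a m := fun m hm a ha =>
    Subgroup.mem_centralizer_iff.mp (hDC (hMD hm)) a ha
  have hMA : M ≠ A := fun e => hMb (by
    rw [← Subgroup.map_comap_eq_self_of_surjective (QuotientGroup.mk'_surjective A) Mb, ← hM, e,
      QuotientGroup.map_mk'_self])
  have hpow : ∀ m ∈ M, m ^ p ∈ A := fun m hm => by
    rw [← QuotientGroup.eq_one_iff, QuotientGroup.mk_pow]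
    exact hMbp _ hm
  have hcomm : ∀ m ∈ M, ∀ n ∈ M, n * m * n⁻¹ * m⁻¹ ∈ A := fun m hm n hn => by
    have e : (QuotientGroup.mk' A n) * (QuotientGroup.mk' A m) =
        (QuotientGroup.mk' A m) * (QuotientGroup.mk' A n) :=
      congrArg Subtype.val (hMbc.1.1 (⟨_, hn⟩ : Mb) ⟨_, hm⟩)
    rw [← QuotientGroup.eq_one_iff]
    show QuotientGroup.mk' A (n * m * n⁻¹ * m⁻¹) = 1
    rw [map_mul, map_mul, map_mul, map_inv, map_inv, e, mul_inv_cancel_right, mul_inv_cancel]
  obtain ⟨x, hx, y, hy, hxy⟩ : ∃ x ∈ M, ∃ y ∈ M, x * y ≠ y * x := by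
    by_contra hcon
    push Not at hcon
    exact hMA (hmax M inferInstance ⟨⟨fun a b => Subtype.ext (hcon a a.2 b b.2)⟩⟩ hAM)
  have hxA : x ∉ A := fun e => hxy (hcen y hy x e).eq
  have hyA : y ∉ A := fun e => hxy (hcen x hx y e).eq.symm
  -- the class two power formula
  have hpw : ∀ m ∈ M, ∀ n ∈ M, (m * n) ^ p = m ^ p * n ^ p * (n * m * n⁻¹ * m⁻¹) ^ p.choose 2 ∧
      (n * m * n⁻¹ * m⁻¹) ^ p = 1 := by
    intro m hm n hn
    set c := n * m * n⁻¹ * m⁻¹ with hc
    have hcA := hcomm m hm n hn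
    have hcm : Commute c m := hcen m hm c hcA
    have hcn : Commute c n := hcen n hn c hcA
    have hnm : ∀ j : ℕ, n ^ j * m = m * n ^ j * c ^ j := by
      intro j
      induction j with
      | zero => simp
      | succ j ih =>
        have e1 : n * m = m * n * c := by
          rw [← (hcm.mul_right hcn).eq, hc]; group
        calc n ^ (j + 1) * m = n ^ j * (n * m) := by rw [pow_succ, mul_assoc]
          _ = (n ^ j * m) * (n * c) := by rw [e1]; simp [mul_assoc]
          _ = m * n ^ j * (c ^ j * n) * c := by rw [ih]; simp [mul_assoc]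
          _ = _ := by rw [(hcn.pow_left j).eq, pow_succ n, pow_succ c]; simp [mul_assoc]
    have hmn : ∀ j : ℕ, (m * n) ^ j = m ^ j * n ^ j * c ^ j.choose 2 := by
      intro j
      induction j with
      | zero => simp
      | succ j ih =>
        have hcc : Commute (c ^ j.choose 2) (m * n) := ((hcm.mul_right hcn).pow_left _)
        calc (m * n) ^ (j + 1) = m ^ j * n ^ j * ((m * n) * c ^ j.choose 2) := by
              rw [pow_succ, ih, mul_assoc (m ^ j * n ^ j), hcc.eq]
          _ = m ^ j * (n ^ j * m) * n * c ^ j.choose 2 := by simp [mul_assoc]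
          _ = m ^ j * (m * n ^ j) * (c ^ j * n) * c ^ j.choose 2 := by rw [hnm]; simp [mul_assoc]
          _ = _ := by
            rw [(hcn.pow_left j).eq, Nat.choose_succ_succ, Nat.choose_one_right, pow_add,
              pow_succ, pow_succ]
            simp [mul_assoc, pow_add]
    refine ⟨hmn p, ?_⟩
    have h1 := hnm p
    rw [(hcen m hm _ (hpow n hn)).eq] at h1
    exact left_eq_mul.mp h1
  set c := y * x * y⁻¹ * x⁻¹ with hc
  have hcp : c ^ p = 1 := (hpw x hx y hy).2
  have hc1 : c ≠ 1 := fun e => hxy (by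
    rw [hc, mul_inv_eq_one, mul_inv_eq_iff_eq_mul] at e; exact e.symm)
  have hcA : c ∈ A := hcomm x hx y hy
  have hco : orderOf c = p := orderOf_eq_prime hcp hc1
  have hpA : p ∣ Nat.card A := hco ▸ Subgroup.orderOf_mk c hcA ▸ orderOf_dvd_natCard _
  -- `p`-th powers outside `A` are not `p`-th powers of `A`
  have hout : ∀ m ∈ M, m ∉ A → ∀ a ∈ A, m ^ p ≠ a ^ p := by
    intro m hm hmA a ha e
    have hu : (m * a⁻¹) ^ p = 1 := by
      rw [(hcen m hm a ha).inv_left.symm.mul_pow, inv_pow, e, mul_inv_cancel]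
    have hmem := mem_zpowers_of_commute h hp hu hcp hc1
      ((hcen _ (mul_mem hm (inv_mem (hAM ha))) c hcA).symm)
    have : m * a⁻¹ ∈ A := Subgroup.zpowers_le.mpr hcA hmem
    exact hmA (by simpa using mul_mem this ha)
  -- the generator
  obtain ⟨g, hg⟩ := hcyc.exists_generator
  have hgen : ∀ a ∈ A, ∃ i : ℤ, a = (g : G) ^ i := fun a ha => by
    obtain ⟨i, hi⟩ := hg ⟨a, ha⟩
    exact ⟨i, (congrArg Subtype.val hi).symm.trans (by simp)⟩
  -- the correction `(n * m ^ i)`
  have hkey : ∀ cc : ℕ → G, (∀ i, cc i ∈ A) →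
      (∀ i, ∃ a ∈ A, (y * x ^ i) ^ p = y ^ p * (x ^ i) ^ p * cc i ∧ cc i = a ^ p) → False := by
    intro cc _ hcc
    obtain ⟨i, hi⟩ := hgen _ (hpow x hx)
    obtain ⟨j, hj⟩ := hgen _ (hpow y hy)
    have hpi : ¬ (p : ℤ) ∣ i := by
      rintro ⟨k, rfl⟩
      refine hout x hx hxA ((g : G) ^ k) (zpow_mem g.2 k) ?_
      rw [hi, mul_comm, zpow_mul, zpow_natCast]
    obtain ⟨u, v, huv⟩ := ((Nat.prime_iff_prime_int.mp hp).coprime_iff_not_dvd.mpr hpi)
    -- `v * i ≡ 1`
    obtain ⟨s, hs⟩ : ∃ s : ℕ, (p : ℤ) ∣ j + i * s := by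
      refine ⟨((-(v * j)) % (p : ℤ)).toNat, ?_⟩
      rw [Int.toNat_of_nonneg (Int.emod_nonneg _ (by exact_mod_cast hp.ne_zero)), Int.emod_def]
      exact ⟨u * j - i * ((-(v * j)) / (p : ℤ)), by linear_combination -j * huv⟩
    obtain ⟨k, hk⟩ := hs
    obtain ⟨a, ha, e1, e2⟩ := hcc s
    have hmem : y * x ^ s ∈ M := mul_mem hy (pow_mem hx s)
    have hnA : y * x ^ s ∉ A := fun e => hxy (by
      have h1 : Commute (y * x ^ s) x := hcen x hx _ e
      have h2 : Commute ((y * x ^ s) * (x ^ s)⁻¹) x := h1.mul_left ((Commute.refl x).pow_left s).inv_left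
      rw [mul_inv_cancel_right] at h2
      exact h2.eq.symm)
    refine hout _ hmem hnA ((g : G) ^ k * a) (mul_mem (zpow_mem g.2 k) ha) ?_
    rw [(show Commute ((g : G) ^ k) a from (hcen a (hAM ha) _ (zpow_mem g.2 k))).mul_pow, e1, e2,
      ← pow_mul, mul_comm s p, pow_mul, hi, hj, ← zpow_natCast ((g : G) ^ i), ← zpow_mul, ← zpow_add,
      hk, mul_comm (p : ℤ) k, zpow_mul, zpow_natCast]
  have hp2 : p = 2 := by
    rcases choose_two_even_or hp with h2 | ⟨k, hk⟩
    · exact h2
    exfalso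
    refine hkey (fun _ => 1) (fun _ => one_mem _) fun i => ⟨1, one_mem _, ?_, by simp⟩
    obtain ⟨e1, e2⟩ := hpw y hy (x ^ i) (pow_mem hx i)
    rw [e1, hk, pow_mul, e2, one_pow]
  subst hp2
  have hno : ∀ a ∈ A, a ^ 2 ≠ c := by
    intro a ha hac
    refine hkey (fun i => (x ^ i * y * (x ^ i)⁻¹ * y⁻¹)) (fun i => hcomm y hy _ (pow_mem hx i))
      fun i => ?_
    obtain ⟨e1, e2⟩ := hpw y hy (x ^ i) (pow_mem hx i)
    rcases eq_or_ne (x ^ i * y * (x ^ i)⁻¹ * y⁻¹) 1 with e | e
    · exact ⟨1, one_mem _, by simpa using e1, by rw [e, one_pow]⟩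
    · exact ⟨a, ha, by simpa using e1, by rw [hac]; exact involution_unique h e2 e hcp hc1⟩
  have hA4 : ¬ 4 ∣ Nat.card A := by
    rintro ⟨k, hk⟩
    have hgo : orderOf (g : G) = Nat.card A := by
      rw [Subgroup.orderOf_coe]; exact orderOf_eq_card_of_forall_mem_zpowers hg
    have hk0 : 0 < k := by
      rcases Nat.eq_zero_or_pos k with rfl | h0
      · exact absurd hk Nat.card_pos.ne'
      · exact h0
    refine hno ((g : G) ^ k) (pow_mem g.2 k) (involution_unique h ?_ ?_ hcp hc1)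
    · rw [← pow_mul, ← pow_mul, ← orderOf_dvd_iff_pow_eq_one, hgo, hk]
      exact ⟨1, by ring⟩
    · rw [← pow_mul]
      intro e
      have := Nat.le_of_dvd (by omega) (orderOf_dvd_of_pow_eq_one e)
      omega
  refine ⟨hpA, hA4, ?_⟩
  obtain ⟨o, ho⟩ := hpA
  have hodd : Odd o := Nat.not_even_iff_odd.mp fun ⟨k, hk⟩ => hA4 ⟨k, by omega⟩
  have hsq : ∀ m ∈ M, ∀ n ∈ M, (m * n) ^ 4 = m ^ 4 * n ^ 4 := by
    intro m hm n hn
    obtain ⟨e1, e2⟩ := hpw m hm n hn
    have hcA' := hcomm m hm n hn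
    have c1 : Commute (m ^ 2) (n ^ 2) := hcen _ (pow_mem hn 2) _ (hpow m hm)
    have c2 : Commute (m ^ 2 * n ^ 2) (n * m * n⁻¹ * m⁻¹) :=
      (hcen _ (mul_mem (pow_mem hm 2) (pow_mem hn 2)) _ hcA').symm
    rw [show (4 : ℕ) = 2 * 2 from rfl, pow_mul, e1, show Nat.choose 2 2 = 1 from rfl, pow_one,
      c2.mul_pow, c1.mul_pow, e2, mul_one, ← pow_mul, ← pow_mul]
  let P : Subgroup G :=
    { carrier := {m | m ∈ M ∧ m ^ 4 = 1}
      one_mem' := ⟨one_mem _, one_pow _⟩
      mul_mem' := fun {a b} ha hb => ⟨mul_mem ha.1 hb.1, by rw [hsq a ha.1 b hb.1, ha.2, hb.2, one_mul]⟩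
      inv_mem' := fun {a} ha => ⟨inv_mem ha.1, by rw [inv_pow, ha.2, inv_one]⟩ }
  have hPn : P.Normal := ⟨fun m hm g' => ⟨Subgroup.Normal.conj_mem inferInstance m hm.1 g',
    by rw [conj_pow, hm.2, mul_one, mul_inv_cancel]⟩⟩
  have hodd' : ∀ m ∈ M, m ^ o ∈ P ∧ (m ^ o)⁻¹ * m ∈ A := by
    intro m hm
    have h2 : (⟨m ^ 2, hpow m hm⟩ : A) ^ Nat.card A = 1 := pow_card_eq_one'
    refine ⟨⟨pow_mem hm o, ?_⟩, ?_⟩
    · have h3 : (m ^ 2) ^ Nat.card A = 1 := congrArg Subtype.val h2
      rw [← pow_mul, show o * 4 = 2 * (2 * o) by ring, pow_mul m 2, ← ho]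
      exact h3
    · obtain ⟨k, hk⟩ := hodd
      have e : (m ^ o)⁻¹ * m = ((m ^ 2) ^ k)⁻¹ := by rw [hk, pow_succ, pow_mul]; group
      rw [e]
      exact inv_mem (pow_mem (hpow m hm) k)
  -- facts inside `P`
  have hPsq : ∀ u ∈ P, u ^ 2 = 1 ∨ u ^ 2 = c := fun u hu => by
    rcases eq_or_ne (u ^ 2) 1 with e | e
    · exact Or.inl e
    · exact Or.inr (involution_unique h (by rw [← pow_mul]; exact hu.2) e hcp hc1)
  have hPinv : ∀ u ∈ P, u ^ 2 = 1 → u = 1 ∨ u = c := fun u _ e =>
    (eq_or_ne u 1).imp_right fun hu1 => involution_unique h e hu1 hcp hc1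
  set a := x ^ o with ha
  set b := y ^ o with hb
  obtain ⟨haP, ha'⟩ := hodd' x hx
  obtain ⟨hbP, hb'⟩ := hodd' y hy
  have hab : a * b ≠ b * a := fun e => hxy (by
    have h1 : Commute (a⁻¹ * x) y := hcen y hy _ ha'
    have h2 : Commute a (b⁻¹ * y) := (hcen a (pow_mem hx o) _ hb').symm
    have h3 : Commute a y := by simpa using (show Commute a b from e).mul_right h2
    have h4 : Commute x y := by simpa using h3.mul_left h1
    exact h4.eq)
  -- non-commuting elements of `P` square to the involution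
  have hsqc : ∀ u ∈ P, ∀ v ∈ P, u * v ≠ v * u → u ^ 2 = c := by
    intro u hu v hv huv
    rcases hPsq u hu with e | e
    · exfalso
      rcases hPinv u hu e with rfl | rfl
      · exact huv (by rw [one_mul, mul_one])
      · exact huv (hcen v hv.1 c hcA).eq
    · exact e
  have hanti : ∀ u ∈ P, ∀ v ∈ P, u * v ≠ v * u → v * u = u * v * c := by
    intro u hu v hv huv
    obtain ⟨e1, e2⟩ := hpw u hu.1 v hv.1
    have e3 : v * u * v⁻¹ * u⁻¹ ≠ 1 := fun e => huv (by
      rw [mul_inv_eq_one, mul_inv_eq_iff_eq_mul] at e; exact e.symm)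
    have e4 := involution_unique h e2 e3 hcp hc1
    have e5 : Commute c (u * v) := hcen _ (mul_mem hu.1 hv.1) c hcA
    rw [← e5.eq, ← e4]
    group
  have ha2 := hsqc a haP b hbP hab
  have hb2 := hsqc b hbP a haP (Ne.symm hab)
  have hab2 : (a * b) * a = b := by
    have e5 : Commute c b := hcen _ hbP.1 c hcA
    calc (a * b) * a = a * (b * a) := by rw [mul_assoc]
      _ = a * (a * b * c) := by rw [hanti a haP b hbP hab]
      _ = a ^ 2 * b * c := by rw [pow_two]; simp [mul_assoc]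
      _ = c ^ 2 * b := by rw [ha2, mul_assoc, ← e5.eq, ← mul_assoc, pow_two]
      _ = b := by rw [hcp, one_mul]
  have hclose : P = Subgroup.closure {a, b} := by
    refine le_antisymm (fun w hw => ?_) ((Subgroup.closure_le _).mpr ?_)
    · set S := Subgroup.closure ({a, b} : Set G) with hS
      have haS : a ∈ S := Subgroup.subset_closure (by simp)
      have hbS : b ∈ S := Subgroup.subset_closure (by simp)
      have hcS : c ∈ S := ha2 ▸ pow_mem haS 2
      have hcomS : ∀ u ∈ P, u ∈ S → u ≠ 1 → u ≠ c → u * w = w * u → w ∈ S := by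
        intro u hu huS hu1 huc e
        have hu2 : u ^ 2 = c := (hPsq u hu).resolve_left fun e' =>
          (hPinv u hu e').elim hu1 huc
        rcases hPsq w hw with e' | e'
        · rcases hPinv w hw e' with rfl | rfl
          · exact one_mem _
          · exact hcS
        · have hcu : Commute u w := e
          have h1 : (u * w) ^ 2 = 1 := by rw [hcu.mul_pow, hu2, e', ← pow_two, hcp]
          rcases hPinv _ (mul_mem hu hw) h1 with e'' | e''
          · rw [eq_inv_of_mul_eq_one_right e'']; exact inv_mem huS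
          · rw [show w = u⁻¹ * c by rw [← e'', inv_mul_cancel_left]]
            exact mul_mem (inv_mem huS) hcS
      have hnec : ∀ u ∈ P, ∀ v ∈ P, u * v ≠ v * u → u ≠ 1 ∧ u ≠ c := fun u _ v hv huv =>
        ⟨fun e => huv (by rw [e, one_mul, mul_one]), fun e => huv (by
          rw [e]; exact (hcen v hv.1 c hcA).eq)⟩
      by_cases h1 : a * w = w * a
      · exact hcomS a haP haS (hnec a haP b hbP hab).1 (hnec a haP b hbP hab).2 h1
      by_cases h2 : b * w = w * b
      · exact hcomS b hbP hbS (hnec b hbP a haP (Ne.symm hab)).1 (hnec b hbP a haP (Ne.symm hab)).2 h2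
      have hwab : a * b * w = w * (a * b) := by
        have ea := hanti a haP w hw h1
        have eb := hanti b hbP w hw h2
        have eca : Commute c a := hcen _ haP.1 c hcA
        have ecb : Commute c b := hcen _ hbP.1 c hcA
        symm
        calc w * (a * b) = (w * a) * b := (mul_assoc _ _ _).symm
          _ = a * w * c * b := by rw [ea]
          _ = a * (w * b) * c := by rw [mul_assoc (a * w), ecb.eq]; simp [mul_assoc]
          _ = a * b * w * (c * c) := by rw [eb]; simp [mul_assoc]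
          _ = _ := by rw [← pow_two, hcp, mul_one]
      have hne1 : a * b * a ≠ a * (a * b) := fun e => hab (by
        have := mul_left_cancel ((mul_assoc a b a).symm.trans e)
        exact this.symm)
      exact hcomS _ (mul_mem haP hbP) (mul_mem haS hbS) (hnec _ (mul_mem haP hbP) a haP hne1).1
        (hnec _ (mul_mem haP hbP) a haP hne1).2 hwab
    · rintro w (rfl | rfl)
      exacts [haP, hbP]
  refine ⟨P, hPn, fun m hm => hMD hm.1, ?_⟩
  have hao : orderOf a = 2 * 2 := by
    refine orderOf_eq_prime_pow (p := 2) (n := 1) ?_ ?_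
    · rw [pow_one, ha2]; exact hc1
    · exact haP.2
  refine TwoLift.quaternion_equiv (k := 2) (a := a) (g := b) hao ?_ ?_ ?_ hclose
  · rw [← pow_two, hb2, ha2]
  · rw [mul_inv_eq_iff_eq_mul, eq_inv_mul_iff_mul_eq, ← mul_assoc]
    exact hab2
  · intro hb
    obtain ⟨i, hi⟩ := hb
    exact hab (by rw [← hi]; exact (Commute.self_zpow a i).eq)

end Cfsg.Agent.NearField
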